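import Mathlib
import Cfsg.Agent.Lib.Helper5.FormGroup
import Cfsg.Agent.Lib.Helper13.SympTrans
import Cfsg.Agent.S0766

set_option autoImplicit false

namespace Cfsg.Agent.Lib.Helper5

open Matrix Cfsg.Agent.Lib.Helper13

variable {F : Type*} [Field F]

/-- Mathlib's symplectic group versus the group of the form `sympForm`. -/
noncomputable def symplecticEquivFormGroup (m : ℕ) :
    Matrix.symplecticGroup (Fin m) F ≃ formGroup (Cfsg.sympForm m F) where
  toFun A := ⟨Matrix.GeneralLinearGroup.mkOfDetNeZero A.1 (by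
      rw [SymplecticGroup.det_eq_one A.2]; exact one_ne_zero),
      (mem_symplecticGroup_iff_preserves A.1).1 A.2⟩
  invFun B := ⟨B.1.1, (mem_symplecticGroup_iff_preserves _).2 B.2⟩
  left_inv A := rfl
  right_inv B := by
    apply Subtype.ext
    apply Units.ext
    rfl

/-- Splitting off a hyperbolic pair of coordinates. -/
def eSp (m : ℕ) : (Fin m ⊕ Fin m) ⊕ (Unit ⊕ Unit) ≃ Fin (m + 1) ⊕ Fin (m + 1) where
  toFun
    | .inl (.inl i) => .inl i.succ
    | .inl (.inr i) => .inr i.succ
    | .inr (.inl _) => .inl 0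
    | .inr (.inr _) => .inr 0
  invFun
    | .inl i => Fin.cases (.inr (.inl ())) (fun j => .inl (.inl j)) i
    | .inr i => Fin.cases (.inr (.inr ())) (fun j => .inl (.inr j)) i
  left_inv := by rintro ((i | i) | (_ | _)) <;> simp
  right_inv := by rintro (i | i) <;> refine Fin.cases ?_ (fun j => ?_) i <;> simp

lemma card_ne_zero_add_one (V : Type*) [Zero V] [Finite V] :
    Nat.card {u : V // u ≠ 0} + 1 = Nat.card V := by
  classical
  rw [← Finite.card_option]
  exact Nat.card_congr (Equiv.optionSubtypeNe (0 : V))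

/-- The number of hyperbolic pairs of the standard symplectic space. -/
theorem card_sympForm_pairs [Fintype F] (m : ℕ) :
    Nat.card {p : (Fin (m + 1) ⊕ Fin (m + 1) → F) × (Fin (m + 1) ⊕ Fin (m + 1) → F) //
        Cfsg.sympForm (m + 1) F p.1 p.2 = 1}
      = ((Fintype.card F) ^ (2 * m + 2) - 1) * (Fintype.card F) ^ (2 * m + 1) := by
  have h := card_pairs_mul_card (V := Fin (m + 1) ⊕ Fin (m + 1) → F) (W := F)
    (fun u => AddMonoidHom.mk' (fun v => Cfsg.sympForm (m + 1) F u v) (sympForm_add_right u))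
    1 (fun u => u ≠ 0) ?_ ?_
  · simp only [AddMonoidHom.mk'_apply] at h
    have hV : Nat.card (Fin (m + 1) ⊕ Fin (m + 1) → F) = (Fintype.card F) ^ (2 * m + 2) := by
      rw [Nat.card_eq_fintype_card, Fintype.card_fun, Fintype.card_sum, Fintype.card_fin]
      congr 1; ring
    have h1 := card_ne_zero_add_one (Fin (m + 1) ⊕ Fin (m + 1) → F)
    rw [hV] at h1 h
    have h2 : Nat.card {u : Fin (m + 1) ⊕ Fin (m + 1) → F // u ≠ 0}
        = (Fintype.card F) ^ (2 * m + 2) - 1 := by omega
    rw [h2, Nat.card_eq_fintype_card (α := F)] at h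
    have hq : 0 < Fintype.card F := Fintype.card_pos
    apply Nat.eq_of_mul_eq_mul_right hq
    rw [h, pow_succ (Fintype.card F) (2 * m + 1)]
    ring
  · intro u hu v
    simp only [ne_eq, not_not] at hu
    subst hu
    simp [sympForm_zero_left]
  · intro u hu t
    obtain ⟨a, ha⟩ : ∃ a, Cfsg.sympForm (m + 1) F u a ≠ 0 := by
      by_contra hcon
      push Not at hcon
      exact hu (sympForm_nondeg u hcon)
    refine ⟨(t / Cfsg.sympForm (m + 1) F u a) • a, ?_⟩
    simp only [AddMonoidHom.mk'_apply]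
    rw [sympForm_smul_right, div_mul_cancel₀ _ ha]

theorem card_sp_succ [Fintype F] (m : ℕ) :
    Nat.card (formGroup (Cfsg.sympForm (m + 1) F))
      = ((Fintype.card F) ^ (2 * m + 2) - 1) * (Fintype.card F) ^ (2 * m + 1)
        * Nat.card (formGroup (Cfsg.sympForm m F)) := by
  rw [card_formGroup_eq (eSp m) (Cfsg.sympForm (m + 1) F) (Cfsg.sympForm m F)
    (fun z w => z (.inr ()) * w (.inl ()) - z (.inl ()) * w (.inr ()))]
  · congr 1
    rw [← card_sympForm_pairs]
    let c : (Unit ⊕ Unit → (Fin (m + 1) ⊕ Fin (m + 1) → F)) ≃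
        (Fin (m + 1) ⊕ Fin (m + 1) → F) × (Fin (m + 1) ⊕ Fin (m + 1) → F) :=
      ⟨fun y => (y (.inr ()), y (.inl ())), fun p => Sum.elim (fun _ => p.2) (fun _ => p.1),
        fun y => by ext (_ | _) <;> rfl, fun p => rfl⟩
    refine Nat.card_congr (Equiv.subtypeEquiv c (fun y => ?_))
    have hbase : Cfsg.sympForm (m + 1) F (Pi.single (Sum.inr 0) 1) (Pi.single (Sum.inl 0) 1) = 1 := by
      rw [sympForm_single_inl_right]
      simp
    constructor
    · rintro ⟨A, rfl⟩
      change Cfsg.sympForm (m + 1) F (A.1.1 *ᵥ Pi.single (Sum.inr 0) 1) (A.1.1 *ᵥ Pi.single (Sum.inl 0) 1) = 1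
      exact (A.2 _ _).trans hbase
    · intro hy
      obtain ⟨A, _, hA1, hA2⟩ := Cfsg.Agent.S0766.result (m + 1) _ _ _ _ hbase hy
      refine ⟨symplecticEquivFormGroup (m + 1) A, ?_⟩
      ext (_ | _)
      · exact congrFun hA2 _
      · exact congrFun hA1 _
  · intro x y
    rw [sympForm_eq_sum, sympForm_eq_sum, Fin.sum_univ_succ]
    simp only [eSp, Equiv.coe_fn_mk]
    ring
  · intro A hA hfix i k
    have hcol : ∀ a, A.1 a (eSp m (Sum.inl i)) = (A.1 *ᵥ Pi.single (eSp m (Sum.inl i)) 1) a := by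
      intro a
      rw [Matrix.mulVec_single_one]
      rfl
    rw [hcol]
    rcases k with _ | _
    · have h1 := hA (Pi.single (eSp m (Sum.inl i)) 1) (Pi.single (eSp m (Sum.inr (Sum.inr ()))) 1)
      change Cfsg.sympForm (m + 1) F (A.1 *ᵥ _) (A.1 *ᵥ _) = _ at h1
      rw [hfix] at h1
      change Cfsg.sympForm (m + 1) F _ (Pi.single (Sum.inr 0) 1)
        = Cfsg.sympForm (m + 1) F _ (Pi.single (Sum.inr 0) 1) at h1
      rw [sympForm_single_inr_right, sympForm_single_inr_right] at h1
      have h2 : (Pi.single (eSp m (Sum.inl i)) 1 : Fin (m + 1) ⊕ Fin (m + 1) → F) (Sum.inl 0) = 0 := by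
        rcases i with i | i <;> simp [eSp, Pi.single_apply, Fin.succ_ne_zero, eq_comm]
      rw [h2] at h1
      change (A.1 *ᵥ _) (Sum.inl 0) = 0
      simpa using h1
    · have h1 := hA (Pi.single (eSp m (Sum.inl i)) 1) (Pi.single (eSp m (Sum.inr (Sum.inl ()))) 1)
      change Cfsg.sympForm (m + 1) F (A.1 *ᵥ _) (A.1 *ᵥ _) = _ at h1
      rw [hfix] at h1
      change Cfsg.sympForm (m + 1) F _ (Pi.single (Sum.inl 0) 1)
        = Cfsg.sympForm (m + 1) F _ (Pi.single (Sum.inl 0) 1) at h1
      rw [sympForm_single_inl_right, sympForm_single_inl_right] at h1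
      have h2 : (Pi.single (eSp m (Sum.inl i)) 1 : Fin (m + 1) ⊕ Fin (m + 1) → F) (Sum.inr 0) = 0 := by
        rcases i with i | i <;> simp [eSp, Pi.single_apply, Fin.succ_ne_zero, eq_comm]
      rw [h2] at h1
      exact h1

/-- Order of the finite symplectic group. -/
theorem card_symplecticGroup [Fintype F] (m : ℕ) :
    Nat.card (Matrix.symplecticGroup (Fin m) F)
      = (Fintype.card F) ^ (m ^ 2) * ∏ i ∈ Finset.range m, ((Fintype.card F) ^ (2 * (i + 1)) - 1) := by
  rw [Nat.card_congr (symplecticEquivFormGroup m)]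
  induction m with
  | zero =>
    simp only [Finset.range_zero, Finset.prod_empty, mul_one]
    have : Subsingleton (Matrix.GeneralLinearGroup (Fin 0 ⊕ Fin 0) F) := by
      constructor
      intro a b
      ext i
      rcases i with i | i <;> exact i.elim0
    rw [Nat.card_of_subsingleton (1 : formGroup (Cfsg.sympForm 0 F))]
    simp
  | succ m ih =>
    rw [card_sp_succ, ih, Finset.prod_range_succ]
    have : (m + 1) ^ 2 = (2 * m + 1) + m ^ 2 := by ring
    rw [this, pow_add]
    have h2 : 2 * (m + 1) = 2 * m + 2 := by ring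
    rw [h2]
    ring

end Cfsg.Agent.Lib.Helper5
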