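import Mathlib
import Cfsg.Agent.Lib.Helper13.SympTrans
import Cfsg.Agent.S0765
import Cfsg.Agent.S0766

set_option autoImplicit false

namespace Cfsg.Agent.Lib.Helper5

open Matrix Cfsg.Agent.Lib.Helper13
open scoped commutatorElement

variable {F : Type*} [Field F] {m : ℕ}

local notation "V" => (Fin m ⊕ Fin m → F)
local notation "Sp" => Matrix.symplecticGroup (Fin m) F

lemma sp_ext {A B : Sp} (h : ∀ x : V, A.1 *ᵥ x = B.1 *ᵥ x) : A = B := by
  apply Subtype.ext
  rw [Matrix.ext_iff_mulVec]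
  exact h

lemma sp_mul_mulVec (A B : Sp) (x : V) : (A * B).1 *ᵥ x = A.1 *ᵥ (B.1 *ᵥ x) := by
  rw [Matrix.mulVec_mulVec]; rfl

lemma sp_mulVec_inv_mulVec (A : Sp) (x : V) : A.1 *ᵥ ((A⁻¹).1 *ᵥ x) = x := by
  have := sp_inv_mulVec_mulVec A⁻¹ x
  rwa [inv_inv] at this

lemma tv_inv (v : V) (c : F) : (tv v c)⁻¹ = tv v (-c) := by
  rw [inv_eq_iff_mul_eq_one]
  apply sp_ext
  intro x
  rw [sp_mul_mulVec, tv_mulVec, tv_mulVec]
  simp only [sympForm_add_left, sympForm_smul_left, sympForm_self]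
  change _ = (1 : Matrix _ _ F) *ᵥ x
  rw [Matrix.one_mulVec]
  module

lemma tv_mul_tv (v : V) (c d : F) : tv v c * tv v d = tv v (c + d) := by
  apply sp_ext
  intro x
  rw [sp_mul_mulVec, tv_mulVec, tv_mulVec, tv_mulVec]
  simp only [sympForm_add_left, sympForm_smul_left, sympForm_self]
  module

lemma tv_smul (v : V) (a c : F) : tv (a • v) c = tv v (a ^ 2 * c) := by
  apply sp_ext
  intro x
  rw [tv_mulVec, tv_mulVec, sympForm_smul_right]
  module

lemma tv_conj (A : Sp) (v : V) (c : F) : A * tv v c * A⁻¹ = tv (A.1 *ᵥ v) c := by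
  apply sp_ext
  intro x
  rw [sp_mul_mulVec, sp_mul_mulVec, tv_mulVec, tv_mulVec, Matrix.mulVec_add, Matrix.mulVec_smul,
    sp_mulVec_inv_mulVec]
  congr 3
  rw [← sp_preserves A, sp_mulVec_inv_mulVec]

lemma tv_zero_left (c : F) : tv (0 : V) c = 1 := by
  apply sp_ext
  intro x
  rw [tv_mulVec]
  change _ = (1 : Matrix _ _ F) *ᵥ x
  simp

/-- A normal subgroup containing all `tv v₀ c` for one non-zero `v₀` is everything. -/
lemma sp_normal_eq_top (N : Subgroup Sp) [N.Normal] (v₀ : V) (hv₀ : v₀ ≠ 0)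
    (h : ∀ c, tv v₀ c ∈ N) : N = ⊤ := by
  rw [eq_top_iff, ← Cfsg.Agent.S0765.result m, Subgroup.closure_le]
  rintro A ⟨w, c, hA⟩
  have hA' : A = tv w c := Subtype.ext hA
  rw [hA']
  by_cases hw : w = 0
  · rw [hw, tv_zero_left]; exact one_mem _
  have hW : ∀ u ∈ (⊤ : Submodule F (Fin m ⊕ Fin m → F)), u ≠ 0 →
      ∃ a ∈ (⊤ : Submodule F (Fin m ⊕ Fin m → F)), Cfsg.sympForm m F u a ≠ 0 := by
    intro u _ hu
    by_contra hcon
    push Not at hcon
    exact hu (sympForm_nondeg u (fun v => hcon v trivial))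
  obtain ⟨B, _, hB⟩ := exists_tv_vec (⊤ : Submodule F (Fin m ⊕ Fin m → F)) hW
    (u := v₀) (u' := w) trivial trivial hv₀ hw
  rw [SetLike.mem_coe, ← hB, ← tv_conj]
  exact ‹N.Normal›.conj_mem _ (h c) B

/-- The Siegel-type element `x ↦ x + a (f(x,u) w + f(x,w) u)` for orthogonal `u`, `w`. -/
lemma exists_siegel (u w : V) (huw : Cfsg.sympForm m F u w = 0) (a : F) :
    ∃ g : Sp, ∀ x : V, g.1 *ᵥ x
      = x + a • (Cfsg.sympForm m F x u • w + Cfsg.sympForm m F x w • u) := by
  refine ⟨tv (u + w) a * tv u (-a) * tv w (-a), fun x => ?_⟩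
  have hwu : Cfsg.sympForm m F w u = 0 := by rw [sympForm_swap, huw, neg_zero]
  rw [sp_mul_mulVec, sp_mul_mulVec, tv_mulVec, tv_mulVec, tv_mulVec]
  simp only [sympForm_add_left, sympForm_add_right, sympForm_smul_left, sympForm_self, huw, hwu]
  module


/-- basis vectors -/
def eL (i : Fin m) : V := Pi.single (Sum.inl i) 1
def eR (i : Fin m) : V := Pi.single (Sum.inr i) 1

lemma sympForm_eL_right (x : V) (i : Fin m) : Cfsg.sympForm m F x (eL i) = x (Sum.inr i) :=
  sympForm_single_inl_right x i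
lemma sympForm_eR_right (x : V) (i : Fin m) : Cfsg.sympForm m F x (eR i) = - x (Sum.inl i) :=
  sympForm_single_inr_right x i
lemma sympForm_eL_eL (i j : Fin m) : Cfsg.sympForm m F (eL i) (eL j) = 0 := by
  rw [sympForm_eL_right]; simp [eL]
lemma sympForm_eL_eR (i j : Fin m) : Cfsg.sympForm m F (eL i) (eR j) = if i = j then -1 else 0 := by
  rw [sympForm_eR_right]; simp [eL, Pi.single_apply, eq_comm]; split_ifs <;> simp
lemma eL_ne_zero (i : Fin m) : (eL i : V) ≠ 0 := by
  intro h
  have := congrFun h (Sum.inl i)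
  simp [eL] at this

/-- `q ≥ 4`: transvections are commutators. -/
theorem sp_commutator_eq_top_of_sq_ne_one (a : F) (ha : a ≠ 0) (ha2 : a ^ 2 ≠ 1) :
    commutator Sp = ⊤ := by
  rcases Nat.eq_zero_or_pos m with rfl | hm
  · have : Subsingleton (Matrix.symplecticGroup (Fin 0) F) := by
      constructor
      intro A B
      apply Subtype.ext
      ext i
      rcases i with i | i <;> exact i.elim0
    exact Subsingleton.elim _ _
  · let i : Fin m := ⟨0, hm⟩
    apply sp_normal_eq_top _ (eL i) (eL_ne_zero i)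
    intro c
    have hbase : Cfsg.sympForm m F (eR i) (eL i) = 1 := by
      rw [sympForm_eL_right]; simp [eR]
    have hnew : Cfsg.sympForm m F (a⁻¹ • eR i) (a • eL i) = 1 := by
      rw [sympForm_smul_left, sympForm_smul_right, hbase, mul_one, inv_mul_cancel₀ ha]
    obtain ⟨A, _, _, hA⟩ := Cfsg.Agent.S0766.result m _ _ _ _ hbase hnew
    have hne : a ^ 2 - 1 ≠ 0 := sub_ne_zero.2 ha2
    have key : ⁅A, tv (eL i) (c / (a ^ 2 - 1))⁆ = tv (eL i) c := by
      rw [commutatorElement_def, tv_conj, tv_inv]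
      change tv (A.1 *ᵥ eL i) _ * _ = _
      rw [show A.1 *ᵥ eL i = a • eL i from hA, tv_smul, tv_mul_tv]
      congr 1
      field_simp
      ring
    rw [← key]
    exact Subgroup.commutator_mem_commutator (Subgroup.mem_top _) (Subgroup.mem_top _)

/-- `m ≥ 3`: transvections are commutators. -/
theorem tv_mem_commutator_of_three (i j k : Fin m) (hij : i ≠ j) (hik : i ≠ k) (hjk : j ≠ k) (c : F) :
    tv (eL i) c ∈ commutator Sp := by
  obtain ⟨g2, hg2⟩ := exists_siegel (eL i) (eR k) (by rw [sympForm_eL_eR, if_neg hik]) (-1 : F)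
  obtain ⟨g1, hg1⟩ := exists_siegel (eL k) (eR j) (by rw [sympForm_eL_eR, if_neg hjk.symm]) (1 : F)
  have hgi : (g1 * g2).1 *ᵥ eL i = eL i := by
    rw [sp_mul_mulVec, hg2, sympForm_eL_eL, sympForm_eL_eR, if_neg hik]
    simp only [zero_smul, add_zero, smul_zero]
    rw [hg1, sympForm_eL_eL, sympForm_eL_eR, if_neg hij]
    simp
  have hgj : (g1 * g2).1 *ᵥ eL j = eL j - eL k := by
    rw [sp_mul_mulVec, hg2, sympForm_eL_eL, sympForm_eL_eR, if_neg hjk]
    simp only [zero_smul, add_zero, smul_zero]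
    rw [hg1, sympForm_eL_eL, sympForm_eL_eR, if_pos rfl]
    module
  have hgk : (g1 * g2).1 *ᵥ eL k = eL k + eL i := by
    rw [sp_mul_mulVec, hg2, sympForm_eL_eL, sympForm_eL_eR, if_pos rfl]
    have : eL k + (-1 : F) • ((0 : F) • eR k + (-1 : F) • eL i) = (eL k + eL i : V) := by module
    rw [this, Matrix.mulVec_add, hg1, hg1]
    simp only [sympForm_eL_eL, sympForm_eL_eR, if_neg hjk.symm, if_neg hij]
    module
  set g := g1 * g2 with hg
  set h := tv (eL i + eL j) c * tv (eL i) (-c) * tv (eL j) (-c) * tv (eL k) c with hh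
  have hconj : g * h * g⁻¹ = tv (eL i + (eL j - eL k)) c * tv (eL i) (-c) * tv (eL j - eL k) (-c)
      * tv (eL k + eL i) c := by
    have e1 : tv (eL i + (eL j - eL k)) c = g * tv (eL i + eL j) c * g⁻¹ := by
      rw [tv_conj, Matrix.mulVec_add, hgi, hgj]
    have e2 : tv (eL i) (-c) = g * tv (eL i) (-c) * g⁻¹ := by rw [tv_conj, hgi]
    have e3 : tv (eL j - eL k) (-c) = g * tv (eL j) (-c) * g⁻¹ := by rw [tv_conj, hgj]
    have e4 : tv (eL k + eL i) c = g * tv (eL k) c * g⁻¹ := by rw [tv_conj, hgk]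
    rw [e1, e2, e3, e4, hh]
    group
  have hinv : h⁻¹ = tv (eL k) (-c) * tv (eL j) c * tv (eL i) c * tv (eL i + eL j) (-c) := by
    rw [hh]
    simp only [_root_.mul_inv_rev, tv_inv, neg_neg, mul_assoc]
  have key : ⁅g, h⁆ = tv (eL i) c := by
    rw [commutatorElement_def, hconj, hinv]
    apply sp_ext
    intro x
    simp only [sp_mul_mulVec, tv_mulVec, sympForm_add_left, sympForm_add_right, sympForm_sub_left,
      sympForm_sub_right, sympForm_smul_left, sympForm_smul_right, sympForm_eL_eL]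
    module
  rw [← key]
  exact Subgroup.commutator_mem_commutator (Subgroup.mem_top _) (Subgroup.mem_top _)

/-- `m ≥ 2`, odd characteristic: transvections are commutators. -/
theorem tv_mem_commutator_of_two (h2 : (2 : F) ≠ 0) (i j : Fin m) (hij : i ≠ j) (c : F) :
    tv (eL i) c ∈ commutator Sp := by
  obtain ⟨g, hg⟩ := exists_siegel (eL i) (eR j) (by rw [sympForm_eL_eR, if_neg hij]) (-1 : F)
  have hgi : g.1 *ᵥ eL i = eL i := by
    rw [hg, sympForm_eL_eL, sympForm_eL_eR, if_neg hij]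
    simp
  have hgj : g.1 *ᵥ eL j = eL j + eL i := by
    rw [hg, sympForm_eL_eL, sympForm_eL_eR, if_pos rfl]
    module
  set d := c / 2 with hd
  set h := tv (eL i + eL j) d * tv (eL i) (-d) * tv (eL j) (-d) with hh
  have hconj : g * h * g⁻¹ = tv (eL i + (eL j + eL i)) d * tv (eL i) (-d) * tv (eL j + eL i) (-d) := by
    have e1 : tv (eL i + (eL j + eL i)) d = g * tv (eL i + eL j) d * g⁻¹ := by
      rw [tv_conj, Matrix.mulVec_add, hgi, hgj]
    have e2 : tv (eL i) (-d) = g * tv (eL i) (-d) * g⁻¹ := by rw [tv_conj, hgi]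
    have e3 : tv (eL j + eL i) (-d) = g * tv (eL j) (-d) * g⁻¹ := by rw [tv_conj, hgj]
    rw [e1, e2, e3, hh]
    group
  have hinv : h⁻¹ = tv (eL j) d * tv (eL i) d * tv (eL i + eL j) (-d) := by
    rw [hh]
    simp only [_root_.mul_inv_rev, tv_inv, neg_neg, mul_assoc]
  have key : ⁅g, h⁆ = tv (eL i) c := by
    rw [commutatorElement_def, hconj, hinv]
    apply sp_ext
    intro x
    have hc : c = 2 * d := by rw [hd]; field_simp
    rw [hc]
    simp only [sp_mul_mulVec, tv_mulVec, sympForm_add_left, sympForm_add_right,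
      sympForm_smul_left, sympForm_eL_eL]
    module
  rw [← key]
  exact Subgroup.commutator_mem_commutator (Subgroup.mem_top _) (Subgroup.mem_top _)

/-- `Sp_{2m}(q)` is perfect except for `Sp_2(2)`, `Sp_2(3)`, `Sp_4(2)`. -/
theorem sp_commutator_eq_top [Fintype F]
    (h : 3 ≤ m ∨ (m = 2 ∧ 3 ≤ Fintype.card F) ∨ 4 ≤ Fintype.card F) : commutator Sp = ⊤ := by
  have case4 : 4 ≤ Fintype.card F → commutator Sp = ⊤ := by
    intro h4
    obtain ⟨x, hx⟩ : IsCyclic Fˣ := by infer_instance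
    refine sp_commutator_eq_top_of_sq_ne_one (x : F) (Units.ne_zero x) (fun h ↦ ?_)
    have h1 : orderOf x ≤ 2 := orderOf_le_of_pow_eq_one zero_lt_two (Units.ext <| by simpa using h)
    rw [orderOf_eq_card_of_forall_mem_zpowers hx] at h1
    have h2 := Nat.card_eq_card_units_add_one F
    rw [Nat.card_eq_fintype_card] at h2
    omega
  rcases h with h | ⟨rfl, h⟩ | h
  · exact sp_normal_eq_top _ (eL ⟨0, by omega⟩) (eL_ne_zero _) (fun c =>
      tv_mem_commutator_of_three ⟨0, by omega⟩ ⟨1, by omega⟩ ⟨2, by omega⟩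
        (by simp [Fin.ext_iff]) (by simp [Fin.ext_iff]) (by simp [Fin.ext_iff]) c)
  · rcases Nat.lt_or_ge (Fintype.card F) 4 with h4 | h4
    · have h3 : Fintype.card F = 3 := by omega
      have h2 : (2 : F) ≠ 0 := by
        intro h0
        have hchar : ringChar F = 2 := by
          have := ringChar.dvd (R := F) (x := 2) (by exact_mod_cast h0)
          rcases (Nat.dvd_prime Nat.prime_two).1 this with h' | h'
          · exact absurd h' (CharP.ringChar_ne_one)
          · exact h'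
        have := FiniteField.even_card_iff_char_two.1 hchar
        omega
      exact sp_normal_eq_top _ (eL 0) (eL_ne_zero _) (fun c =>
        tv_mem_commutator_of_two h2 0 1 (by simp) c)
    · exact case4 h4
  · exact case4 h

end Cfsg.Agent.Lib.Helper5
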