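import Mathlib
import Cfsg.Prelude.Def_Classical

set_option autoImplicit false

namespace Cfsg.Agent.Lib.Helper5

variable {F : Type*} [Field F] [Fintype F]

/-- The number of solutions of `x y = t`. -/
lemma card_mul_eq [DecidableEq F] (t : F) : Nat.card {p : F × F // p.1 * p.2 = t}
    = (Fintype.card F - 1) + (if t = 0 then Fintype.card F else 0) := by
  have e : {p : F × F // p.1 * p.2 = t} ≃ Σ x : F, {y : F // x * y = t} :=
    ⟨fun p => ⟨p.1.1, ⟨p.1.2, p.2⟩⟩, fun s => ⟨(s.1, s.2.1), s.2.2⟩, fun _ => rfl, fun _ => rfl⟩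
  rw [Nat.card_congr e, Nat.card_sigma, ← Finset.add_sum_erase _ _ (Finset.mem_univ (0 : F))]
  have h0 : Nat.card {y : F // (0 : F) * y = t} = if t = 0 then Fintype.card F else 0 := by
    split_ifs with h
    · subst h
      rw [← Nat.card_eq_fintype_card]
      exact Nat.card_congr ⟨fun y => y.1, fun y => ⟨y, zero_mul y⟩, fun _ => rfl, fun _ => rfl⟩
    · have : IsEmpty {y : F // (0 : F) * y = t} := ⟨fun y => h (by rw [← y.2, zero_mul])⟩
      exact Nat.card_of_isEmpty
  have h1 : ∀ x ∈ Finset.univ.erase (0 : F), Nat.card {y : F // x * y = t} = 1 := by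
    intro x hx
    have hx0 := Finset.ne_of_mem_erase hx
    have : Unique {y : F // x * y = t} :=
      { default := ⟨x⁻¹ * t, by rw [← mul_assoc, mul_inv_cancel₀ hx0, one_mul]⟩
        uniq := fun y => Subtype.ext (by
          change y.1 = x⁻¹ * t
          have := y.2
          rw [eq_inv_mul_iff_mul_eq₀ hx0, this]) }
    exact Nat.card_unique
  rw [h0, Finset.sum_congr rfl h1, Finset.sum_const, Finset.card_erase_of_mem (Finset.mem_univ _),
    Finset.card_univ, smul_eq_mul, mul_one, add_comm]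

/-- Adding a hyperbolic plane: `#{x y + Q' w = c} = q #{Q' w = c} + (q - 1) |W|`. -/
lemma card_hyperbolic_ext {W : Type*} [Finite W] (Q' : W → F) (c : F) :
    Nat.card {p : (F × F) × W // p.1.1 * p.1.2 + Q' p.2 = c}
      = Fintype.card F * Nat.card {w // Q' w = c} + (Fintype.card F - 1) * Nat.card W := by
  classical
  have := Fintype.ofFinite W
  have e : {p : (F × F) × W // p.1.1 * p.1.2 + Q' p.2 = c}
      ≃ Σ w : W, {p : F × F // p.1 * p.2 = c - Q' w} :=
    ⟨fun p => ⟨p.1.2, ⟨p.1.1, by have := p.2; linear_combination this⟩⟩,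
      fun s => ⟨(s.2.1, s.1), by rw [s.2.2]; ring⟩, fun _ => rfl, fun _ => rfl⟩
  rw [Nat.card_congr e, Nat.card_sigma]
  simp_rw [card_mul_eq, sub_eq_zero]
  rw [Finset.sum_add_distrib, Finset.sum_const, Finset.card_univ, smul_eq_mul, ← Finset.sum_filter,
    Finset.sum_const, smul_eq_mul, Nat.card_eq_fintype_card, Nat.card_eq_fintype_card,
    Fintype.card_subtype]
  have : (Finset.univ.filter (fun w => c = Q' w)) = Finset.univ.filter (fun w => Q' w = c) := by
    ext w; simp [eq_comm]
  rw [this]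
  ring

variable {ι ι' : Type} [Fintype ι] [DecidableEq ι] [Fintype ι'] [DecidableEq ι']

/-- Coordinates adapted to a splitting `ι ≃ ι' ⊕ (Unit ⊕ Unit)`. -/
def splitEquiv (F : Type*) (e : ι' ⊕ (Unit ⊕ Unit) ≃ ι) : (ι → F) ≃ (F × F) × (ι' → F) where
  toFun x := ((x (e (.inr (.inl ()))), x (e (.inr (.inr ())))), fun i => x (e (.inl i)))
  invFun p := fun j => match e.symm j with
    | .inl i => p.2 i
    | .inr (.inl _) => p.1.1
    | .inr (.inr _) => p.1.2
  left_inv x := by
    funext j
    obtain ⟨s, rfl⟩ := e.surjective j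
    rcases s with i | _ | _ <;> simp
  right_inv p := by
    obtain ⟨⟨a, b⟩, w⟩ := p
    simp

omit [Fintype ι] [DecidableEq ι] in
/-- The number of solutions of `Q x = c` when `Q = Q' ⊥ H`. -/
lemma card_quad_split (e : ι' ⊕ (Unit ⊕ Unit) ≃ ι) (Q : (ι → F) → F) (Q' : (ι' → F) → F)
    (hsplit : ∀ x, Q x = Q' (fun i => x (e (.inl i)))
      + x (e (.inr (.inl ()))) * x (e (.inr (.inr ())))) (c : F) :
    Nat.card {x : ι → F // Q x = c}
      = Fintype.card F * Nat.card {w : ι' → F // Q' w = c}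
        + (Fintype.card F - 1) * Fintype.card F ^ Fintype.card ι' := by
  have h := card_hyperbolic_ext Q' c
  rw [Nat.card_eq_fintype_card (α := ι' → F), Fintype.card_fun] at h
  rw [← h]
  refine Nat.card_congr (Equiv.subtypeEquiv (splitEquiv F e) (fun x => ?_))
  rw [hsplit]
  simp only [splitEquiv, Equiv.coe_fn_mk]
  rw [add_comm]

end Cfsg.Agent.Lib.Helper5
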