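import Mathlib
import Cfsg.Agent.Lib.Helper5.QuadCount

set_option autoImplicit false

namespace Cfsg.Agent.Lib.Helper5

/-- Splitting off a hyperbolic pair of coordinates (plus type). -/
def ePlus (m : ℕ) : (Fin m ⊕ Fin m) ⊕ (Unit ⊕ Unit) ≃ Fin (m + 1) ⊕ Fin (m + 1) where
  toFun
    | .inl (.inl i) => .inl i.succ
    | .inl (.inr i) => .inr i.succ
    | .inr (.inl _) => .inl 0
    | .inr (.inr _) => .inr 0
  invFun
    | .inl i => Fin.cases (.inr (.inl ())) (fun j => .inl (.inl j)) i
    | .inr i => Fin.cases (.inr (.inr ())) (fun j => .inl (.inr j)) i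
  left_inv := by rintro ((i | i) | (_ | _)) <;> simp
  right_inv := by rintro (i | i) <;> refine Fin.cases ?_ (fun j => ?_) i <;> simp

/-- Splitting off a hyperbolic pair of coordinates (odd dimension). -/
def eOdd (m : ℕ) :
    (Unit ⊕ (Fin m ⊕ Fin m)) ⊕ (Unit ⊕ Unit) ≃ Unit ⊕ (Fin (m + 1) ⊕ Fin (m + 1)) where
  toFun
    | .inl (.inl _) => .inl ()
    | .inl (.inr (.inl i)) => .inr (.inl i.succ)
    | .inl (.inr (.inr i)) => .inr (.inr i.succ)
    | .inr (.inl _) => .inr (.inl 0)
    | .inr (.inr _) => .inr (.inr 0)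
  invFun
    | .inl _ => .inl (.inl ())
    | .inr (.inl i) => Fin.cases (.inr (.inl ())) (fun j => .inl (.inr (.inl j))) i
    | .inr (.inr i) => Fin.cases (.inr (.inr ())) (fun j => .inl (.inr (.inr j))) i
  left_inv := by rintro ((_ | i | i) | (_ | _)) <;> simp
  right_inv := by
    rintro (_ | i | i)
    · simp
    · refine Fin.cases ?_ (fun j => ?_) i <;> simp
    · refine Fin.cases ?_ (fun j => ?_) i <;> simp

/-- Splitting off a hyperbolic pair of coordinates (minus type). -/
def eMinus (m : ℕ) :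
    ((Fin m ⊕ Fin m) ⊕ Fin 2) ⊕ (Unit ⊕ Unit) ≃ (Fin (m + 1) ⊕ Fin (m + 1)) ⊕ Fin 2 where
  toFun
    | .inl (.inr k) => .inr k
    | .inl (.inl (.inl i)) => .inl (.inl i.succ)
    | .inl (.inl (.inr i)) => .inl (.inr i.succ)
    | .inr (.inl _) => .inl (.inl 0)
    | .inr (.inr _) => .inl (.inr 0)
  invFun
    | .inr k => .inl (.inr k)
    | .inl (.inl i) => Fin.cases (.inr (.inl ())) (fun j => .inl (.inl (.inl j))) i
    | .inl (.inr i) => Fin.cases (.inr (.inr ())) (fun j => .inl (.inl (.inr j))) i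
  left_inv := by rintro (((i | i) | k) | (_ | _)) <;> simp
  right_inv := by
    rintro ((i | i) | k)
    · refine Fin.cases ?_ (fun j => ?_) i <;> simp
    · refine Fin.cases ?_ (fun j => ?_) i <;> simp
    · simp

variable {F : Type*} [Field F]

lemma quadFormPlus_split (m : ℕ) (x : Fin (m + 1) ⊕ Fin (m + 1) → F) :
    Cfsg.quadFormPlus (m + 1) F x = Cfsg.quadFormPlus m F (fun i => x (ePlus m (.inl i)))
      + x (ePlus m (.inr (.inl ()))) * x (ePlus m (.inr (.inr ()))) := by
  simp only [Cfsg.quadFormPlus, Fin.sum_univ_succ, ePlus, Equiv.coe_fn_mk]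
  ring

lemma quadFormOdd_split (m : ℕ) (x : Unit ⊕ (Fin (m + 1) ⊕ Fin (m + 1)) → F) :
    Cfsg.quadFormOdd (m + 1) F x = Cfsg.quadFormOdd m F (fun i => x (eOdd m (.inl i)))
      + x (eOdd m (.inr (.inl ()))) * x (eOdd m (.inr (.inr ()))) := by
  simp only [Cfsg.quadFormOdd, Fin.sum_univ_succ, eOdd, Equiv.coe_fn_mk]
  ring

lemma quadFormMinus_split (m : ℕ) (a b : F) (x : (Fin (m + 1) ⊕ Fin (m + 1)) ⊕ Fin 2 → F) :
    Cfsg.quadFormMinus (m + 1) F a b x
      = Cfsg.quadFormMinus m F a b (fun i => x (eMinus m (.inl i)))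
      + x (eMinus m (.inr (.inl ()))) * x (eMinus m (.inr (.inr ()))) := by
  simp only [Cfsg.quadFormMinus, Fin.sum_univ_succ, eMinus, Equiv.coe_fn_mk]
  ring

variable [Fintype F]

/-- `q z + q^m = q^(2m) + q^(m+1)` for the number `z` of zeros of the plus-type form. -/
theorem card_zeros_plus (m : ℕ) :
    Fintype.card F * Nat.card {v : Fin m ⊕ Fin m → F // Cfsg.quadFormPlus m F v = 0}
      + Fintype.card F ^ m = Fintype.card F ^ (2 * m) + Fintype.card F ^ (m + 1) := by
  induction m with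
  | zero =>
    have : Unique {v : Fin 0 ⊕ Fin 0 → F // Cfsg.quadFormPlus 0 F v = 0} :=
      { default := ⟨0, by simp [Cfsg.quadFormPlus]⟩
        uniq := fun x => Subtype.ext (by funext i; rcases i with i | i <;> exact i.elim0) }
    rw [Nat.card_unique]
    simp [add_comm]
  | succ m ih =>
    rw [card_quad_split (ePlus m) _ _ (quadFormPlus_split m) 0]
    obtain ⟨k, hk⟩ : ∃ k, Fintype.card F = k + 1 := ⟨Fintype.card F - 1, by
      have := Fintype.card_pos (α := F); omega⟩
    simp only [Fintype.card_sum, Fintype.card_fin]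
    rw [hk] at ih ⊢
    simp only [Nat.add_sub_cancel]
    have e1 : m + m = 2 * m := by ring
    rw [e1]
    generalize Nat.card {v : Fin m ⊕ Fin m → F // Cfsg.quadFormPlus m F v = 0} = z at ih ⊢
    have : (k + 1) * ((k + 1) * z + k * (k + 1) ^ (2 * m)) + (k + 1) ^ (m + 1)
        = (k + 1) * ((k + 1) * z + (k + 1) ^ m) + (k + 1) * k * (k + 1) ^ (2 * m) := by ring
    rw [this, ih]
    ring

/-- The number of zeros of the odd-dimensional form. -/
theorem card_zeros_odd (m : ℕ) :
    Nat.card {v : Unit ⊕ (Fin m ⊕ Fin m) → F // Cfsg.quadFormOdd m F v = 0}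
      = Fintype.card F ^ (2 * m) := by
  induction m with
  | zero =>
    have : Unique {v : Unit ⊕ (Fin 0 ⊕ Fin 0) → F // Cfsg.quadFormOdd 0 F v = 0} :=
      { default := ⟨0, by simp [Cfsg.quadFormOdd]⟩
        uniq := fun x => Subtype.ext (by
          funext i
          rcases i with _ | i | i
          · have := x.2
            simpa [Cfsg.quadFormOdd] using this
          · exact i.elim0
          · exact i.elim0) }
    rw [Nat.card_unique]
    simp
  | succ m ih =>
    rw [card_quad_split (eOdd m) _ _ (quadFormOdd_split m) 0, ih]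
    obtain ⟨k, hk⟩ : ∃ k, Fintype.card F = k + 1 := ⟨Fintype.card F - 1, by
      have := Fintype.card_pos (α := F); omega⟩
    simp only [Fintype.card_sum, Fintype.card_fin, Fintype.card_unit]
    rw [hk]
    simp only [Nat.add_sub_cancel]
    have e1 : 1 + (m + m) = 2 * m + 1 := by ring
    rw [e1]
    ring

/-- `z + q^(m+1) = q^(2m+1) + q^m` for the number `z` of zeros of the minus-type form
in dimension `2m + 2`. -/
theorem card_zeros_minus (m : ℕ) (a b : F)
    (hab : ∀ z₁ z₂ : F, z₁ ^ 2 + a * z₁ * z₂ + b * z₂ ^ 2 = 0 → z₁ = 0 ∧ z₂ = 0) :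
    Nat.card {v : (Fin m ⊕ Fin m) ⊕ Fin 2 → F // Cfsg.quadFormMinus m F a b v = 0}
      + Fintype.card F ^ (m + 1) = Fintype.card F ^ (2 * m + 1) + Fintype.card F ^ m := by
  induction m with
  | zero =>
    have : Unique {v : (Fin 0 ⊕ Fin 0) ⊕ Fin 2 → F // Cfsg.quadFormMinus 0 F a b v = 0} :=
      { default := ⟨0, by simp [Cfsg.quadFormMinus]⟩
        uniq := fun x => Subtype.ext (by
          have h := x.2
          simp only [Cfsg.quadFormMinus, Finset.univ_eq_empty, Finset.sum_empty, zero_add] at h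
          obtain ⟨h0, h1⟩ := hab _ _ h
          funext i
          rcases i with (i | i) | k
          · exact i.elim0
          · exact i.elim0
          · fin_cases k
            · exact h0
            · exact h1) }
    rw [Nat.card_unique]
    simp [add_comm]
  | succ m ih =>
    rw [card_quad_split (eMinus m) _ _ (quadFormMinus_split m a b) 0]
    obtain ⟨k, hk⟩ : ∃ k, Fintype.card F = k + 1 := ⟨Fintype.card F - 1, by
      have := Fintype.card_pos (α := F); omega⟩
    simp only [Fintype.card_sum, Fintype.card_fin]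
    rw [hk] at ih ⊢
    simp only [Nat.add_sub_cancel]
    have e1 : m + m + 2 = 2 * m + 2 := by ring
    rw [e1]
    generalize Nat.card {v : (Fin m ⊕ Fin m) ⊕ Fin 2 → F // Cfsg.quadFormMinus m F a b v = 0} = z
      at ih ⊢
    have : (k + 1) * z + k * (k + 1) ^ (2 * m + 2) + (k + 1) ^ (m + 1 + 1)
        = (k + 1) * (z + (k + 1) ^ (m + 1)) + k * (k + 1) ^ (2 * m + 2) := by ring
    rw [this, ih]
    ring

end Cfsg.Agent.Lib.Helper5
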