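import Mathlib
import Cfsg.Agent.Lib.Helper5.Frames

set_option autoImplicit false

namespace Cfsg.Agent.Lib.Helper5

open Matrix Module

variable {F : Type*} [Field F] {ι ι₁ ι₂ : Type} [Fintype ι] [DecidableEq ι] [Fintype ι₁]
  [DecidableEq ι₁] [Fintype ι₂] [DecidableEq ι₂]

/-- block diagonal matrix along `e` -/
def bd (e : ι₁ ⊕ ι₂ ≃ ι) (A : Matrix ι₁ ι₁ F) (D : Matrix ι₂ ι₂ F) : Matrix ι ι F :=
  (fromBlocks A 0 0 D).submatrix e.symm e.symm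

/-- first projection -/
def p1 (e : ι₁ ⊕ ι₂ ≃ ι) (v : ι → F) : ι₁ → F := fun i => v (e (Sum.inl i))
/-- second projection -/
def p2 (e : ι₁ ⊕ ι₂ ≃ ι) (v : ι → F) : ι₂ → F := fun i => v (e (Sum.inr i))
/-- joining -/
def jn (e : ι₁ ⊕ ι₂ ≃ ι) (x : ι₁ → F) (y : ι₂ → F) : ι → F := fun i => Sum.elim x y (e.symm i)

omit [Fintype ι] [DecidableEq ι] [Fintype ι₁] [DecidableEq ι₁] [Fintype ι₂] [DecidableEq ι₂] in
@[simp] lemma p1_jn (e : ι₁ ⊕ ι₂ ≃ ι) (x : ι₁ → F) (y : ι₂ → F) : p1 e (jn e x y) = x := by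
  funext i; simp [p1, jn]

omit [Fintype ι] [DecidableEq ι] [Fintype ι₁] [DecidableEq ι₁] [Fintype ι₂] [DecidableEq ι₂] in
@[simp] lemma p2_jn (e : ι₁ ⊕ ι₂ ≃ ι) (x : ι₁ → F) (y : ι₂ → F) : p2 e (jn e x y) = y := by
  funext i; simp [p2, jn]

omit [Fintype ι] [DecidableEq ι] [Fintype ι₁] [DecidableEq ι₁] [Fintype ι₂] [DecidableEq ι₂] in
lemma ext_p (e : ι₁ ⊕ ι₂ ≃ ι) {u v : ι → F} (h1 : p1 e u = p1 e v) (h2 : p2 e u = p2 e v) :
    u = v := by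
  funext i
  obtain ⟨s, rfl⟩ := e.surjective i
  rcases s with s | s
  · exact congrFun h1 s
  · exact congrFun h2 s

omit [Fintype ι] [DecidableEq ι] [Fintype ι₁] [DecidableEq ι₁] [Fintype ι₂] [DecidableEq ι₂] in
lemma jn_p (e : ι₁ ⊕ ι₂ ≃ ι) (v : ι → F) : jn e (p1 e v) (p2 e v) = v :=
  ext_p e (p1_jn _ _ _) (p2_jn _ _ _)

omit [DecidableEq ι] [DecidableEq ι₁] [DecidableEq ι₂] in
lemma bd_mulVec (e : ι₁ ⊕ ι₂ ≃ ι) (A : Matrix ι₁ ι₁ F) (D : Matrix ι₂ ι₂ F) (v : ι → F) :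
    bd e A D *ᵥ v = jn e (A *ᵥ p1 e v) (D *ᵥ p2 e v) := by
  have h := Matrix.submatrix_mulVec_equiv (fromBlocks A 0 0 D) v e.symm e.symm
  rw [bd, h, Matrix.fromBlocks_mulVec]
  funext i
  simp only [Function.comp_apply, jn, Matrix.zero_mulVec, add_zero, zero_add, Equiv.symm_symm]
  rfl

omit [DecidableEq ι] [DecidableEq ι₁] [DecidableEq ι₂] in
lemma bd_mul (e : ι₁ ⊕ ι₂ ≃ ι) (A A' : Matrix ι₁ ι₁ F) (D D' : Matrix ι₂ ι₂ F) :
    bd e A D * bd e A' D' = bd e (A * A') (D * D') := by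
  rw [bd, bd, Matrix.submatrix_mul_equiv, Matrix.fromBlocks_multiply]
  simp [bd]

omit [Fintype ι] [Fintype ι₁] [Fintype ι₂] in
lemma bd_one (e : ι₁ ⊕ ι₂ ≃ ι) : bd e (1 : Matrix ι₁ ι₁ F) (1 : Matrix ι₂ ι₂ F) = 1 := by
  rw [bd, Matrix.fromBlocks_one, Matrix.submatrix_one_equiv]

omit [Fintype ι] [DecidableEq ι] [Fintype ι₁] [DecidableEq ι₁] [Fintype ι₂] [DecidableEq ι₂] in
lemma bd_inj (e : ι₁ ⊕ ι₂ ≃ ι) {A A' : Matrix ι₁ ι₁ F} {D D' : Matrix ι₂ ι₂ F}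
    (h : bd e A D = bd e A' D') : A = A' ∧ D = D' := by
  constructor
  · ext i j
    have := congrFun (congrFun h (e (Sum.inl i))) (e (Sum.inl j))
    simpa [bd] using this
  · ext i j
    have := congrFun (congrFun h (e (Sum.inr i))) (e (Sum.inr j))
    simpa [bd] using this

lemma eq_bd_of (e : ι₁ ⊕ ι₂ ≃ ι) (M : Matrix ι ι F)
    (h1 : ∀ v, p2 e v = 0 → p2 e (M *ᵥ v) = 0) (h2 : ∀ v, p1 e v = 0 → p1 e (M *ᵥ v) = 0) :
    M = bd e (M.submatrix (e ∘ Sum.inl) (e ∘ Sum.inl)) (M.submatrix (e ∘ Sum.inr) (e ∘ Sum.inr)) := by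
  ext i j
  obtain ⟨s, rfl⟩ := e.surjective i
  obtain ⟨t, rfl⟩ := e.surjective j
  rcases s with s | s <;> rcases t with t | t
  · simp [bd]
  · have := congrFun (h2 (Pi.single (e (Sum.inr t)) 1) (by funext a; simp [p1])) s
    rw [Matrix.mulVec_single_one] at this
    simpa [bd, p1] using this
  · have := congrFun (h1 (Pi.single (e (Sum.inl t)) 1) (by funext a; simp [p2])) s
    rw [Matrix.mulVec_single_one] at this
    simpa [bd, p2] using this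
  · simp [bd]

/-- conjugate sets have isomorphic stabilisers -/
theorem nonempty_stabilizing_conj {H : Type*} [Group H] (toMat : H →* Matrix ι ι F)
    (S₀ S : Set (ι → F)) (a : H) (ha : ∀ v, v ∈ S₀ ↔ toMat a *ᵥ v ∈ S) :
    Nonempty (Cfsg.stabilizing toMat S ≃* Cfsg.stabilizing toMat S₀) := by
  have hinv : ∀ v, toMat a *ᵥ (toMat a⁻¹ *ᵥ v) = v := by
    intro v
    rw [Matrix.mulVec_mulVec, ← map_mul]; simp
  refine ⟨{ toFun := fun g => ⟨a⁻¹ * g.1 * a, ?_⟩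
            invFun := fun g => ⟨a * g.1 * a⁻¹, ?_⟩
            left_inv := ?_
            right_inv := ?_
            map_mul' := ?_ }⟩
  · intro v
    rw [ha v, g.2 (toMat a *ᵥ v), ha (toMat (a⁻¹ * g.1 * a) *ᵥ v)]
    simp only [map_mul, ← Matrix.mulVec_mulVec, hinv]
  · intro v
    have h1 := ha (toMat a⁻¹ *ᵥ v)
    rw [hinv] at h1
    rw [← h1, g.2 (toMat a⁻¹ *ᵥ v), ha]
    simp only [map_mul, ← Matrix.mulVec_mulVec]
  · intro g
    apply Subtype.ext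
    simp [mul_assoc]
  · intro g
    apply Subtype.ext
    simp [mul_assoc]
  · intro g g'
    apply Subtype.ext
    simp [mul_assoc]

/-- The stabiliser of the first block in the group of an orthogonal sum of two forms. -/
theorem nonempty_stab_mulEquiv_prod {H H₁ H₂ : Type*} [Group H] [Group H₁] [Group H₂]
    (e : ι₁ ⊕ ι₂ ≃ ι)
    (toMat : H →* Matrix ι ι F) (toMat₁ : H₁ →* Matrix ι₁ ι₁ F) (toMat₂ : H₂ →* Matrix ι₂ ι₂ F)
    (hinj : Function.Injective toMat) (hinj₁ : Function.Injective toMat₁)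
    (hinj₂ : Function.Injective toMat₂)
    (f : (ι → F) → (ι → F) → F) (f₁ : (ι₁ → F) → (ι₁ → F) → F) (f₂ : (ι₂ → F) → (ι₂ → F) → F)
    (hch : ∀ M, (∃ h, toMat h = M) ↔ ∀ u v, f (M *ᵥ u) (M *ᵥ v) = f u v)
    (hch₁ : ∀ M, (∃ h, toMat₁ h = M) ↔ ∀ u v, f₁ (M *ᵥ u) (M *ᵥ v) = f₁ u v)
    (hch₂ : ∀ M, (∃ h, toMat₂ h = M) ↔ ∀ u v, f₂ (M *ᵥ u) (M *ᵥ v) = f₂ u v)
    (hdec : ∀ u v, f u v = f₁ (p1 e u) (p1 e v) + f₂ (p2 e u) (p2 e v))
    (h10 : ∀ x, f₁ x 0 = 0) (h20 : ∀ y, f₂ 0 y = 0) (h1nd : ∀ y, (∀ x, f₁ x y = 0) → y = 0) :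
    Nonempty (Cfsg.stabilizing toMat {v : ι → F | p2 e v = 0} ≃* H₁ × H₂) := by
  have hex : ∀ ab : H₁ × H₂, ∃ h, toMat h = bd e (toMat₁ ab.1) (toMat₂ ab.2) := by
    intro ab
    rw [hch]
    intro u v
    rw [hdec, hdec u v, bd_mulVec, bd_mulVec, p1_jn, p1_jn, p2_jn, p2_jn,
      (hch₁ _).1 ⟨ab.1, rfl⟩, (hch₂ _).1 ⟨ab.2, rfl⟩]
  choose Ψ hΨ using hex
  have hmem : ∀ ab, Ψ ab ∈ Cfsg.stabilizing toMat {v : ι → F | p2 e v = 0} := by
    intro ab v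
    change p2 e v = 0 ↔ p2 e (toMat (Ψ ab) *ᵥ v) = 0
    rw [hΨ, bd_mulVec, p2_jn]
    constructor
    · intro h; rw [h, Matrix.mulVec_zero]
    · intro h
      have := congrArg (fun w => toMat₂ ab.2⁻¹ *ᵥ w) h
      simp only [Matrix.mulVec_mulVec, ← map_mul, Matrix.mulVec_zero] at this
      simpa using this
  let Φ : H₁ × H₂ →* Cfsg.stabilizing toMat {v : ι → F | p2 e v = 0} :=
    MonoidHom.mk' (fun ab => ⟨Ψ ab, hmem ab⟩) (by
      intro ab ab'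
      apply Subtype.ext
      apply hinj
      change toMat (Ψ (ab * ab')) = toMat (Ψ ab * Ψ ab')
      rw [map_mul, hΨ, hΨ, hΨ, bd_mul]
      simp)
  refine ⟨(MulEquiv.ofBijective Φ ⟨?_, ?_⟩).symm⟩
  · intro ab ab' h
    have h1 : toMat (Ψ ab) = toMat (Ψ ab') := congrArg (fun x => toMat x.1) h
    rw [hΨ, hΨ] at h1
    obtain ⟨h2, h3⟩ := bd_inj e h1
    exact Prod.ext (hinj₁ h2) (hinj₂ h3)
  · rintro ⟨h, hh⟩
    have hpres := (hch _).1 ⟨h, rfl⟩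
    have hinv : ∀ v, toMat h *ᵥ (toMat h⁻¹ *ᵥ v) = v := by
      intro v
      rw [Matrix.mulVec_mulVec, ← map_mul]; simp
    have h1 : ∀ v, p2 e v = 0 → p2 e (toMat h *ᵥ v) = 0 := fun v hv => (hh v).1 hv
    have h2 : ∀ v, p1 e v = 0 → p1 e (toMat h *ᵥ v) = 0 := by
      intro v hv
      apply h1nd
      intro x
      -- `jn x 0 = h w'` with `w' ∈ W₀`
      have hw : p2 e (toMat h⁻¹ *ᵥ jn e x 0) = 0 := by
        apply (hh _).2
        change p2 e _ = 0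
        rw [hinv, p2_jn]
      have h3 := hpres (toMat h⁻¹ *ᵥ jn e x 0) v
      rw [hinv, hdec, hdec _ v, p1_jn, p2_jn, hv, hw, h10, h20, h20] at h3
      simpa using h3
    have hM := eq_bd_of e (toMat h) h1 h2
    set A := (toMat h).submatrix (e ∘ Sum.inl) (e ∘ Sum.inl) with hA
    set D := (toMat h).submatrix (e ∘ Sum.inr) (e ∘ Sum.inr) with hD
    obtain ⟨a, ha⟩ := (hch₁ A).2 (by
      intro x y
      have h3 := hpres (jn e x 0) (jn e y 0)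
      rw [hM, bd_mulVec, bd_mulVec, hdec, hdec (jn e x 0)] at h3
      simp only [p1_jn, p2_jn, Matrix.mulVec_zero] at h3
      exact add_right_cancel h3)
    obtain ⟨b, hb⟩ := (hch₂ D).2 (by
      intro x y
      have h3 := hpres (jn e 0 x) (jn e 0 y)
      rw [hM, bd_mulVec, bd_mulVec, hdec, hdec (jn e 0 x)] at h3
      simp only [p1_jn, p2_jn, Matrix.mulVec_zero] at h3
      exact add_left_cancel h3)
    refine ⟨(a, b), ?_⟩
    apply Subtype.ext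
    apply hinj
    change toMat (Ψ (a, b)) = toMat h
    rw [hΨ, ha, hb, ← hM]

/-- the linear embedding of the first block -/
def jnL (e : ι₁ ⊕ ι₂ ≃ ι) : (ι₁ → F) →ₗ[F] (ι → F) where
  toFun x := jn e x 0
  map_add' x y := by
    apply ext_p e
    · rw [p1_jn]; funext i; simp [p1, jn]
    · rw [p2_jn]; funext i; simp [p2, jn]
  map_smul' c x := by
    apply ext_p e
    · rw [p1_jn]; funext i; simp [p1, jn]
    · rw [p2_jn]; funext i; simp [p2, jn]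

omit [Fintype ι] [DecidableEq ι] [Fintype ι₁] [DecidableEq ι₁] [Fintype ι₂] [DecidableEq ι₂] in
lemma mem_range_jnL_iff (e : ι₁ ⊕ ι₂ ≃ ι) (v : ι → F) :
    v ∈ LinearMap.range (jnL (F := F) e) ↔ p2 e v = 0 := by
  constructor
  · rintro ⟨x, rfl⟩
    exact p2_jn e x 0
  · intro h
    refine ⟨p1 e v, ?_⟩
    change jn e (p1 e v) 0 = v
    rw [← h, jn_p]

omit [Fintype ι] [DecidableEq ι] [Fintype ι₂] [DecidableEq ι₂] in
lemma span_range_jn_single (e : ι₁ ⊕ ι₂ ≃ ι) :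
    Submodule.span F (Set.range (fun a : ι₁ => jn e (Pi.single a (1 : F)) (0 : ι₂ → F))) =
      LinearMap.range (jnL (F := F) e) := by
  have h1 : (fun a : ι₁ => jn e (Pi.single a (1 : F)) (0 : ι₂ → F)) =
      jnL (F := F) e ∘ (Pi.basisFun F ι₁) := by
    funext a
    simp [jnL]
  rw [h1, Set.range_comp, Submodule.span_image, (Pi.basisFun F ι₁).span_eq, Submodule.map_top]

/-- transporting the standard block subspace -/
lemma mem_block_iff_of_frame {H : Type*} [Group H] (toMat : H →* Matrix ι ι F) (e : ι₁ ⊕ ι₂ ≃ ι)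
    (a : H) (W : Submodule F (ι → F))
    (hW : Submodule.span F (Set.range
      (fun i : ι₁ => toMat a *ᵥ jn e (Pi.single i (1 : F)) (0 : ι₂ → F))) = W) (v : ι → F) :
    v ∈ {v : ι → F | p2 e v = 0} ↔ toMat a *ᵥ v ∈ (W : Set (ι → F)) := by
  have h1 : (fun i : ι₁ => toMat a *ᵥ jn e (Pi.single i (1 : F)) (0 : ι₂ → F)) =
      (actL toMat a).toLinearMap ∘ (fun a : ι₁ => jn e (Pi.single a (1 : F)) (0 : ι₂ → F)) := rfl
  rw [h1, Set.range_comp, Submodule.span_image, span_range_jn_single] at hW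
  change p2 e v = 0 ↔ toMat a *ᵥ v ∈ W
  rw [← mem_range_jnL_iff, ← hW]
  constructor
  · intro h
    exact ⟨v, h, rfl⟩
  · rintro ⟨w, hw, hwv⟩
    have : w = v := (actL toMat a).injective hwv
    exact this ▸ hw

end Cfsg.Agent.Lib.Helper5
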