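import Mathlib
import Cfsg.Agent.Lib.Helper5.FramesWitt
import Cfsg.Agent.Lib.Helper5.FormWitt
import Cfsg.Agent.Lib.Helper5.SpOrder
import Cfsg.Agent.Lib.Helper94.SympWrap

set_option autoImplicit false

namespace Cfsg.Agent.Lib.Helper5

open Matrix Module Cfsg.Agent.Lib.Helper13 Cfsg.Agent.Lib.Helper94

variable {F : Type*} [Field F]

lemma exists_sp_of_linearEquiv (m : ℕ) (g : (Fin m ⊕ Fin m → F) ≃ₗ[F] (Fin m ⊕ Fin m → F))
    (hg : ∀ u v, Cfsg.sympForm m F (g u) (g v) = Cfsg.sympForm m F u v) :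
    ∃ A : Matrix.symplecticGroup (Fin m) F, ∀ x, Cfsg.spToMat m F A *ᵥ x = g x := by
  obtain ⟨A, hA⟩ := exists_formGroup_of_linearEquiv (Cfsg.sympForm m F) g hg
  exact ⟨(symplecticEquivFormGroup m).symm A, hA⟩

lemma sp_preserves (m : ℕ) (A : Matrix.symplecticGroup (Fin m) F) (u v : Fin m ⊕ Fin m → F) :
    Cfsg.sympForm m F (Cfsg.spToMat m F A *ᵥ u) (Cfsg.spToMat m F A *ᵥ v) = Cfsg.sympForm m F u v :=
  (mem_symplecticGroup_iff_preserves A.1).1 A.2 u v

/-- Witt for frames in matrix form. -/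
theorem exists_sp_of_frames (m : ℕ) {κ : Type*} [Fintype κ] (x y : κ → Fin m ⊕ Fin m → F)
    (hx : LinearIndependent F x) (hy : LinearIndependent F y)
    (h : ∀ i j, Cfsg.sympForm m F (x i) (x j) = Cfsg.sympForm m F (y i) (y j)) :
    ∃ A : Matrix.symplecticGroup (Fin m) F, (fun i => Cfsg.spToMat m F A *ᵥ x i) = y := by
  obtain ⟨g, hg1, hg2⟩ := exists_isometry_of_frames_alt (sympB m F) (sympB_nondegenerate m)
    (sympB_isAlt m) x y hx hy (by simpa only [sympB_apply] using h)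
  obtain ⟨A, hA⟩ := exists_sp_of_linearEquiv m g (by simpa only [sympB_apply] using hg1)
  exact ⟨A, funext fun i => by rw [hA, hg2]⟩

lemma sp_smul_mem_tiFrames (m k : ℕ) (A : Matrix.symplecticGroup (Fin m) F)
    (f : Fin k → Fin m ⊕ Fin m → F) (hf : f ∈ tiFrames (sympB m F) k) :
    (fun i => Cfsg.spToMat m F A *ᵥ f i) ∈ tiFrames (sympB m F) k := by
  refine ⟨?_, fun i j => ?_⟩
  · exact hf.1.map' (actL (Cfsg.spToMat m F) A).toLinearMap (LinearEquiv.ker _)
  · rw [sympB_apply, sp_preserves, ← sympB_apply]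
    exact hf.2 i j

lemma finrank_symp (m : ℕ) : finrank F (Fin m ⊕ Fin m → F) = 2 * m := by
  rw [Module.finrank_fintype_fun_eq_card, Fintype.card_sum, Fintype.card_fin]; ring

theorem card_sp_stabilizing_mul [Fintype F] (m k : ℕ) (W : Submodule F (Fin m ⊕ Fin m → F))
    (hWk : finrank F W = k) (hW : ∀ u ∈ W, ∀ v ∈ W, Cfsg.sympForm m F u v = 0) :
    Nat.card (Cfsg.stabilizing (Cfsg.spToMat m F) (W : Set (Fin m ⊕ Fin m → F))) *
      ∏ i : Fin k, (Fintype.card F ^ (2 * m - (i : ℕ)) - Fintype.card F ^ (i : ℕ)) =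
      (∏ i : Fin k, (Fintype.card F ^ k - Fintype.card F ^ (i : ℕ))) *
        Nat.card (Matrix.symplecticGroup (Fin m) F) := by
  have : Finite (Matrix.symplecticGroup (Fin m) F) := Subtype.finite
  have h := card_stabilizing_mul (Cfsg.spToMat m F) k (tiFrames (sympB m F) k)
    (fun A f hf => sp_smul_mem_tiFrames m k A f hf)
    (fun f hf f' hf' => exists_sp_of_frames m f f' hf.1 hf'.1 (by
      intro i j
      rw [← sympB_apply, ← sympB_apply, hf.2, hf'.2])) W hWk (by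
      intro f hf
      refine ⟨hf.1, fun i j => ?_⟩
      rw [sympB_apply]
      apply hW <;> rw [← hf.2] <;> exact Submodule.subset_span ⟨_, rfl⟩)
  rw [card_tiFrames _ (sympB_nondegenerate m) (sympB_isAlt m), finrank_symp] at h
  exact h

lemma tri_succ (k : ℕ) : (k + 1) * (k + 1 + 1) / 2 = k * (k + 1) / 2 + (k + 1) := by
  have : (k + 1) * (k + 1 + 1) = k * (k + 1) + 2 * (k + 1) := by ring
  rw [this, Nat.add_mul_div_left _ _ (by norm_num)]

lemma sp_parabolic_arith (q m k : ℕ) (hq : 1 ≤ q) (hk : k ≤ m) :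
    q ^ (k * (k + 1) / 2 + 2 * k * (m - k)) *
      (q ^ ((m - k) ^ 2) * ∏ i ∈ Finset.range (m - k), (q ^ (2 * (i + 1)) - 1)) *
      ∏ i : Fin k, (q ^ (2 * m - (i : ℕ)) - q ^ (i : ℕ)) =
    q ^ (m ^ 2) * ∏ i ∈ Finset.range m, (q ^ (2 * (i + 1)) - 1) := by
  induction k with
  | zero => simp
  | succ k ih =>
    rw [← ih (by omega)]
    obtain ⟨d, rfl⟩ : ∃ d, m = k + 1 + d := ⟨m - (k + 1), by omega⟩
    have e1 : k + 1 + d - (k + 1) = d := by omega
    have e2 : k + 1 + d - k = d + 1 := by omega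
    rw [e1, e2, Fin.prod_univ_castSucc, Finset.prod_range_succ, tri_succ]
    simp only [Fin.val_castSucc, Fin.val_last]
    have e3 : q ^ (2 * (k + 1 + d) - k) - q ^ k = q ^ k * (q ^ (2 * (d + 1)) - 1) := by
      rw [Nat.mul_sub, mul_one, ← pow_add]
      congr 2; omega
    rw [e3]
    have e4 : q ^ (k * (k + 1) / 2 + 2 * k * (d + 1)) * q ^ ((d + 1) ^ 2) =
        q ^ (k * (k + 1) / 2 + (k + 1) + 2 * (k + 1) * d) * q ^ (d ^ 2) * q ^ k := by
      rw [← pow_add, ← pow_add, ← pow_add]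
      congr 1; ring
    calc _ = (q ^ (k * (k + 1) / 2 + (k + 1) + 2 * (k + 1) * d) * q ^ (d ^ 2) * q ^ k) *
          ((∏ i ∈ Finset.range d, (q ^ (2 * (i + 1)) - 1)) * (q ^ (2 * (d + 1)) - 1) *
          ∏ i : Fin k, (q ^ (2 * (k + 1 + d) - (i : ℕ)) - q ^ (i : ℕ))) := by ring
      _ = _ := by rw [← e4]; ring

theorem card_sp_stabilizing [Fintype F] (m k : ℕ) (hk : k ≤ m) (W : Submodule F (Fin m ⊕ Fin m → F))
    (hWk : finrank F W = k) (hW : ∀ u ∈ W, ∀ v ∈ W, Cfsg.sympForm m F u v = 0) :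
    Nat.card (Cfsg.stabilizing (Cfsg.spToMat m F) (W : Set (Fin m ⊕ Fin m → F))) =
      Fintype.card F ^ (k * (k + 1) / 2 + 2 * k * (m - k)) *
      (Fintype.card F ^ ((m - k) ^ 2) *
        ∏ i ∈ Finset.range (m - k), (Fintype.card F ^ (2 * (i + 1)) - 1)) *
      ∏ i : Fin k, (Fintype.card F ^ k - Fintype.card F ^ (i : ℕ)) := by
  have h := card_sp_stabilizing_mul m k W hWk hW
  have hq : 2 ≤ Fintype.card F := Fintype.one_lt_card
  rw [card_symplecticGroup, ← sp_parabolic_arith _ m k (by omega) hk] at h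
  have hpos : 0 < ∏ i : Fin k, (Fintype.card F ^ (2 * m - (i : ℕ)) - Fintype.card F ^ (i : ℕ)) := by
    apply Finset.prod_pos
    intro i _
    have : Fintype.card F ^ (i : ℕ) < Fintype.card F ^ (2 * m - (i : ℕ)) :=
      Nat.pow_lt_pow_right (by omega) (by have := i.2; omega)
    omega
  apply Nat.eq_of_mul_eq_mul_right hpos
  rw [h]; ring

end Cfsg.Agent.Lib.Helper5
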