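import Mathlib
import Cfsg.Agent.Lib.Helper5.BlockStab
import Cfsg.Agent.Lib.Helper5.SpParabolic
import Cfsg.Agent.S0752

set_option autoImplicit false

namespace Cfsg.Agent.Lib.Helper5

open Matrix Module Cfsg.Agent.Lib.Helper13 Cfsg.Agent.Lib.Helper94

variable {F : Type*} [Field F]

/-- splitting the symplectic coordinates -/
def eSpSplit {k l m : ℕ} (c : Fin k ⊕ Fin l ≃ Fin m) :
    (Fin k ⊕ Fin k) ⊕ (Fin l ⊕ Fin l) ≃ Fin m ⊕ Fin m :=
  (Equiv.sumSumSumComm _ _ _ _).trans (Equiv.sumCongr c c)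

lemma sympForm_split {k l m : ℕ} (c : Fin k ⊕ Fin l ≃ Fin m) (u v : Fin m ⊕ Fin m → F) :
    Cfsg.sympForm m F u v = Cfsg.sympForm k F (p1 (eSpSplit c) u) (p1 (eSpSplit c) v) +
      Cfsg.sympForm l F (p2 (eSpSplit c) u) (p2 (eSpSplit c) v) := by
  rw [sympForm_eq_sum, sympForm_eq_sum, sympForm_eq_sum, ← Equiv.sum_comp c, Fintype.sum_sum_type]
  rfl

lemma sp_char (m : ℕ) (M : Matrix (Fin m ⊕ Fin m) (Fin m ⊕ Fin m) F) :
    (∃ h, Cfsg.spToMat m F h = M) ↔
      ∀ u v, Cfsg.sympForm m F (M *ᵥ u) (M *ᵥ v) = Cfsg.sympForm m F u v := by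
  rw [← mem_symplecticGroup_iff_preserves]
  constructor
  · rintro ⟨h, rfl⟩; exact h.2
  · intro h; exact ⟨⟨M, h⟩, rfl⟩

/-- a symplectic basis of a non-degenerate subspace -/
lemma exists_symplectic_frame (m k : ℕ) (W : Submodule F (Fin m ⊕ Fin m → F))
    (hWk : finrank F W = 2 * k)
    (hW : ∀ u ∈ W, (∀ v ∈ W, Cfsg.sympForm m F u v = 0) → u = 0) :
    ∃ x : Fin k ⊕ Fin k → Fin m ⊕ Fin m → F, LinearIndependent F x ∧
      Submodule.span F (Set.range x) = W ∧
      ∀ a b, Cfsg.sympForm m F (x a) (x b) =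
        Cfsg.sympForm k F (Pi.single a 1) (Pi.single b 1) := by
  classical
  obtain ⟨m', k', b, h1, h2, h3, h4⟩ := Cfsg.Agent.S0752.result ((sympB m F).restrict W) (by
    intro x
    exact sympB_isAlt m x.1)
  have hk' : k' = 0 := by
    by_contra hne
    have j : Fin k' := ⟨0, Nat.pos_of_ne_zero hne⟩
    have h5 : ((b (Sum.inr j) : W) : Fin m ⊕ Fin m → F) = 0 := by
      apply hW _ (b (Sum.inr j)).2
      intro v hv
      have := h4 j ⟨v, hv⟩
      rw [← sympB_apply]
      exact this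
    exact b.ne_zero (Sum.inr j) (Subtype.ext h5)
  subst hk'
  have hm' : m' = k := by
    have := Module.finrank_eq_card_basis b
    rw [hWk] at this
    simp at this
    omega
  subst hm'
  let x : Fin m' ⊕ Fin m' → Fin m ⊕ Fin m → F :=
    fun a => Sum.elim (fun i => (b (Sum.inl (Sum.inr i)) : W).1) (fun i => (b (Sum.inl (Sum.inl i)) : W).1) a
  have hx : x = W.subtype ∘ b ∘ (fun a => Sum.inl (Sum.swap a)) := by
    funext a
    rcases a with a | a <;> rfl
  have hbij : Function.Bijective (fun a : Fin m' ⊕ Fin m' => (Sum.inl (Sum.swap a) :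
      (Fin m' ⊕ Fin m') ⊕ Fin 0)) := by
    constructor
    · intro a a' h
      exact Sum.swap_leftInverse.injective (Sum.inl.inj h)
    · rintro (a | a)
      · exact ⟨Sum.swap a, by simp⟩
      · exact a.elim0
  refine ⟨x, ?_, ?_, ?_⟩
  · rw [hx]
    exact (b.linearIndependent.comp _ hbij.1).map' W.subtype (Submodule.ker_subtype W)
  · rw [hx, Set.range_comp, Set.range_comp, hbij.2.range_eq, Set.image_univ, Submodule.span_image,
      b.span_eq, Submodule.map_top, Submodule.range_subtype]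
  · have hB : ∀ u v : W, Cfsg.sympForm m F u.1 v.1 = (sympB m F).restrict W u v := by
      intro u v
      rw [← sympB_apply]; rfl
    intro a c
    rcases a with a | a <;> rcases c with c | c
    · rw [sympForm_single_inl_right]
      simp only [x, Sum.elim_inl]
      rw [hB, h3]; simp
    · rw [sympForm_single_inr_right]
      simp only [x, Sum.elim_inl, Sum.elim_inr]
      rw [sympForm_swap, hB, h1]
      simp [Pi.single_apply, eq_comm]
    · rw [sympForm_single_inl_right]
      simp only [x, Sum.elim_inl, Sum.elim_inr]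
      rw [hB, h1]
      simp [Pi.single_apply, eq_comm]
    · rw [sympForm_single_inr_right]
      simp only [x, Sum.elim_inr]
      rw [hB, h2]; simp

theorem sp_stab_nondeg (m k : ℕ) (hk : k ≤ m) (W : Submodule F (Fin m ⊕ Fin m → F))
    (hWk : finrank F W = 2 * k)
    (hW : ∀ u ∈ W, (∀ v ∈ W, Cfsg.sympForm m F u v = 0) → u = 0) :
    Nonempty (Cfsg.stabilizing (Cfsg.spToMat m F) (W : Set (Fin m ⊕ Fin m → F)) ≃*
      Matrix.symplecticGroup (Fin k) F × Matrix.symplecticGroup (Fin (m - k)) F) := by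
  classical
  let c : Fin k ⊕ Fin (m - k) ≃ Fin m := finSumFinEquiv.trans (finCongr (Nat.add_sub_cancel' hk))
  obtain ⟨E⟩ := nonempty_stab_mulEquiv_prod (eSpSplit c) (Cfsg.spToMat m F) (Cfsg.spToMat k F)
    (Cfsg.spToMat (m - k) F) Subtype.val_injective Subtype.val_injective Subtype.val_injective
    (Cfsg.sympForm m F) (Cfsg.sympForm k F) (Cfsg.sympForm (m - k) F) (sp_char m) (sp_char k)
    (sp_char (m - k)) (sympForm_split c) (sympForm_zero_right) (sympForm_zero_left) (by
      intro y hy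
      apply sympForm_nondeg
      intro v
      rw [sympForm_swap, hy, neg_zero])
  obtain ⟨x, hx1, hx2, hx3⟩ := exists_symplectic_frame m k W hWk hW
  have hy : LinearIndependent F (fun a : Fin k ⊕ Fin k =>
      jn (eSpSplit c) (Pi.single a (1 : F)) (0 : Fin (m - k) ⊕ Fin (m - k) → F)) := by
    have h1 : (fun a : Fin k ⊕ Fin k =>
      jn (eSpSplit c) (Pi.single a (1 : F)) (0 : Fin (m - k) ⊕ Fin (m - k) → F)) =
      jnL (F := F) (eSpSplit c) ∘ (Pi.basisFun F (Fin k ⊕ Fin k)) := by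
      funext a
      simp [jnL]
    rw [h1]
    apply (Pi.basisFun F (Fin k ⊕ Fin k)).linearIndependent.map'
    rw [LinearMap.ker_eq_bot]
    intro u v huv
    have := congrArg (p1 (eSpSplit c)) huv
    simpa [jnL] using this
  obtain ⟨A, hA⟩ := exists_sp_of_frames m _ x hy hx1 (by
    intro a b
    rw [hx3, sympForm_split c, p1_jn, p1_jn, p2_jn, sympForm_zero_left, add_zero])
  obtain ⟨E2⟩ := nonempty_stabilizing_conj (Cfsg.spToMat m F) _ (W : Set (Fin m ⊕ Fin m → F)) A
    (mem_block_iff_of_frame (Cfsg.spToMat m F) (eSpSplit c) A W (by rw [hA, hx2]))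
  exact ⟨E2.trans E⟩

end Cfsg.Agent.Lib.Helper5
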