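import Mathlib
import Cfsg.Agent.Lib.Helper5.SpNondegStab

set_option autoImplicit false

namespace Cfsg.Agent.Lib.Helper5

open Matrix Module Cfsg.Agent.Lib.Helper13 Cfsg.Agent.Lib.Helper94

variable {F : Type*} [Field F]

/-- A symplectic basis of an abstract non-degenerate alternating space. -/
lemma exists_symplectic_basis {U : Type*} [AddCommGroup U] [Module F U] [FiniteDimensional F U]
    (B : LinearMap.BilinForm F U) (hB : B.Nondegenerate) (hA : B.IsAlt) (k : ℕ)
    (hk : finrank F U = 2 * k) :
    ∃ b : Basis (Fin k ⊕ Fin k) F U, ∀ u v, Cfsg.sympForm k F (b.equivFun u) (b.equivFun v) = B u v := by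
  classical
  obtain ⟨m', k', b, h1, h2, h3, h4⟩ := Cfsg.Agent.S0752.result B hA
  have hk' : k' = 0 := by
    by_contra hne
    have j : Fin k' := ⟨0, Nat.pos_of_ne_zero hne⟩
    exact b.ne_zero (Sum.inr j) (hB.1 _ (h4 j))
  subst hk'
  have hm' : m' = k := by
    have := Module.finrank_eq_card_basis b
    rw [hk] at this
    simp at this
    omega
  subst hm'
  let e : (Fin m' ⊕ Fin m') ⊕ Fin 0 ≃ Fin m' ⊕ Fin m' :=
    (Equiv.sumEmpty _ _).trans (Equiv.sumComm _ _)
  let b' : Basis (Fin m' ⊕ Fin m') F U := b.reindex e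
  refine ⟨b', ?_⟩
  have key : (sympB m' F).comp b'.equivFun.toLinearMap b'.equivFun.toLinearMap = B := by
    apply LinearMap.BilinForm.ext_basis b'
    intro a c
    rw [LinearMap.BilinForm.comp_apply, sympB_apply]
    have hs : ∀ a, b'.equivFun (b' a) = Pi.single a 1 := by
      intro a
      funext j
      rw [b'.equivFun_self a j, Pi.single_apply]
      simp [eq_comm]
    simp only [LinearEquiv.coe_coe, hs]
    have hb1 : ∀ i, b' (Sum.inl i) = b (Sum.inl (Sum.inr i)) := by
      intro i; simp [b', e]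
    have hb2 : ∀ i, b' (Sum.inr i) = b (Sum.inl (Sum.inl i)) := by
      intro i; simp [b', e]
    rcases a with a | a <;> rcases c with c | c
    · rw [sympForm_single_inl_right, hb1, hb1, h3]; simp
    · rw [sympForm_single_inr_right, hb1, hb2, ← hA.neg_eq, h1]
      simp [Pi.single_apply, eq_comm]
    · rw [sympForm_single_inl_right, hb1, hb2, h1]
      simp [Pi.single_apply, eq_comm]
    · rw [sympForm_single_inr_right, hb2, hb2, h2]; simp
  intro u v
  rw [← key, LinearMap.BilinForm.comp_apply, sympB_apply]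
  rfl

/-- A faithful isometric action on a symplectic space gives an embedding in `Sp`. -/
theorem exists_injective_hom_sp {G U : Type*} [Group G] [AddCommGroup U] [Module F U]
    [FiniteDimensional F U] (B : LinearMap.BilinForm F U) (hB : B.Nondegenerate) (hA : B.IsAlt)
    (k : ℕ) (hk : finrank F U = 2 * k) (ρ : G →* Module.End F U)
    (hρ : ∀ g u v, B (ρ g u) (ρ g v) = B u v) (hinj : Function.Injective ρ) :
    ∃ f : G →* Matrix.symplecticGroup (Fin k) F, Function.Injective f := by
  classical
  obtain ⟨b, hb⟩ := exists_symplectic_basis B hB hA k hk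
  let f₀ : G →* Matrix (Fin k ⊕ Fin k) (Fin k ⊕ Fin k) F :=
    ((LinearMap.toMatrixAlgEquiv b : Module.End F U ≃ₐ[F] _) : Module.End F U →* _).comp ρ
  have hmem : ∀ g, f₀ g ∈ Matrix.symplecticGroup (Fin k) F := by
    intro g
    rw [mem_symplecticGroup_iff_preserves]
    intro u v
    obtain ⟨u, rfl⟩ := b.equivFun.surjective u
    obtain ⟨v, rfl⟩ := b.equivFun.surjective v
    have h1 : ∀ w, f₀ g *ᵥ b.equivFun w = b.equivFun (ρ g w) := by
      intro w
      exact LinearMap.toMatrix_mulVec_repr b b (ρ g) w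
    rw [h1, h1, hb, hb, hρ]
  refine ⟨f₀.codRestrict _ hmem, ?_⟩
  intro g g' h
  have h1 : f₀ g = f₀ g' := congrArg Subtype.val h
  exact hinj ((LinearMap.toMatrixAlgEquiv b).injective h1)

end Cfsg.Agent.Lib.Helper5
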