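import Mathlib
import Cfsg.Agent.Lib.Helper44.Eichler
import Cfsg.Agent.Lib.Helper44.Criterion

set_option autoImplicit false

namespace Cfsg.Agent.Lib.Helper5

open QuadraticMap Cfsg.Agent.Lib.Helper44
open scoped commutatorElement

variable {F V : Type*} [Field F] [AddCommGroup V] [Module F V]

/-- The Eichler transformation with non-singular `w` lies in the commutator subgroup. -/
theorem eichler_mem_commutator [FiniteDimensional F V] {Q : QuadraticForm F V}
    (hQ : (polarBilin Q).Nondegenerate) {u w : V} (hu : Q u = 0) (huw : polar Q u w = 0)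
    (hw : Q w ≠ 0) :
    (⟨eichler Q u w hu huw, eichler_mem Q u w hu huw⟩ : OQ Q) ∈ commutator (OQ Q) := by
  have hwu : polar Q w u = 0 := by rw [polar_comm]; exact huw
  have hw1 : Q w = Q (w - Q w • u) := by
    rw [sub_eq_add_neg, ← neg_smul, Q_add_smul, hu, hwu]; ring
  obtain ⟨g, hg, hgw⟩ := exists_OQ_map hQ hw1 hw
  have h1 : eichler Q u w hu huw = refl Q w * refl Q (w - Q w • u) := by
    ext x
    rw [refl_mul_refl_eq_eichler Q hu huw hw, eichler_apply, eichlerLin_apply]
  have h2 : refl Q (w - Q w • u) = g * refl Q w * g⁻¹ := by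
    rw [conj_refl hg, hgw]
  have h3 : (⟨eichler Q u w hu huw, eichler_mem Q u w hu huw⟩ : OQ Q)
      = ⁅(⟨refl Q w, refl_mem Q w⟩ : OQ Q), (⟨g, hg⟩ : OQ Q)⁆ := by
    apply Subtype.ext
    rw [commutatorElement_def]
    change eichler Q u w hu huw = refl Q w * g * (refl Q w)⁻¹ * g⁻¹
    rw [h1, h2, refl_inv]
    simp only [mul_assoc]
  rw [h3, commutator_def]
  exact Subgroup.commutator_mem_commutator (Subgroup.mem_top _) (Subgroup.mem_top _)

/-- An isometry centralising the commutator subgroup fixes the singular line `⟨e⟩`. -/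
theorem eigen_of_commute [FiniteDimensional F V] {Q : QuadraticForm F V}
    (hQ : (polarBilin Q).Nondegenerate) {e f w0 : V} (he : Q e = 0)
    (hef : polar Q e f = 1) (hw0 : Q w0 ≠ 0) (hw0e : polar Q e w0 = 0) (hw0f : polar Q f w0 = 0)
    (z : V ≃ₗ[F] V) (hz : z ∈ OQ Q)
    (hcomm : ∀ g : OQ Q, g ∈ commutator (OQ Q) → z * g.1 = g.1 * z) : ∃ a : F, z e = a • e := by
  have hw00 : w0 ≠ 0 := by
    rintro rfl
    exact hw0 (map_zero Q)
  obtain ⟨y, hy1⟩ := polar_nondeg_exists hQ hw00
  have hy : polar Q w0 y ≠ 0 := by rw [polar_comm, hy1]; exact one_ne_zero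
  set x := y - polar Q e y • f with hx
  have hex : polar Q e x = 0 := by
    rw [hx, polar_sub_right, polar_smul_right, hef]; simp
  have hwx : polar Q w0 x = polar Q w0 y := by
    rw [hx, polar_sub_right, polar_smul_right, polar_comm Q w0 f, hw0f]; simp
  have hE := congrArg (fun g : V ≃ₗ[F] V => g x)
    (hcomm _ (eichler_mem_commutator hQ he hw0e hw0))
  simp only [LinearEquiv.mul_apply, eichler_apply, hex, hwx, map_add, map_sub, map_smul] at hE
  set t := polar Q w0 y with ht
  set B := polar Q e (z x) with hB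
  set A := polar Q w0 (z x) - Q w0 * B with hA
  have h1 : z e = (t⁻¹ * A) • e + (-(t⁻¹ * B)) • w0 := by
    have h2 : t • z e = A • e - B • w0 := by
      have : z x + t • z e - (0 : F) • z w0 - (Q w0 * 0) • z e
        = z x + polar Q w0 (z x) • e - B • w0 - (Q w0 * B) • e := hE
      rw [hA]
      have h3 : t • z e = (z x + t • z e - (0 : F) • z w0 - (Q w0 * 0) • z e) - z x := by module
      rw [h3, this]
      module
    have h4 : z e = t⁻¹ • (t • z e) := by rw [smul_smul, inv_mul_cancel₀ hy, one_smul]
    rw [h4, h2]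
    module
  have h5 : Q (z e) = 0 := by rw [mem_OQ.1 hz, he]
  rw [h1, Q_add_smul, QuadraticMap.map_smul, he, polar_smul_left, hw0e] at h5
  simp only [smul_eq_mul, mul_zero, zero_add, add_zero] at h5
  have h6 : t⁻¹ * B = 0 := by
    rcases mul_eq_zero.1 h5 with h | h
    · simpa using h
    · exact absurd h hw0
  rw [h6] at h1
  exact ⟨t⁻¹ * A, by rw [h1]; simp⟩

/-- An isometry centralising the commutator subgroup of the orthogonal group is `±1`, as soon as
there are a hyperbolic pair and a non-singular vector orthogonal to it. -/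
theorem scalar_of_commute [FiniteDimensional F V] {Q : QuadraticForm F V}
    (hQ : (polarBilin Q).Nondegenerate) {e f w0 : V} (he : Q e = 0) (hf : Q f = 0)
    (hef : polar Q e f = 1) (hw0 : Q w0 ≠ 0) (hw0e : polar Q e w0 = 0) (hw0f : polar Q f w0 = 0)
    (z : V ≃ₗ[F] V) (hz : z ∈ OQ Q)
    (hcomm : ∀ g : OQ Q, g ∈ commutator (OQ Q) → z * g.1 = g.1 * z) :
    ∃ α : F, α ^ 2 = 1 ∧ ∀ x, z x = α • x := by
  have hfe : polar Q f e = 1 := by rw [polar_comm]; exact hef
  have hee : polar Q e e = 0 := by rw [polar_self, he]; simp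
  have hff : polar Q f f = 0 := by rw [polar_self, hf]; simp
  obtain ⟨a, ha⟩ := eigen_of_commute hQ he hef hw0 hw0e hw0f z hz hcomm
  obtain ⟨b, hb⟩ := eigen_of_commute hQ hf hfe hw0 hw0f hw0e z hz hcomm
  have hab : a * b = 1 := by
    have := OQ_polar hz e f
    rw [ha, hb, polar_smul_left, polar_smul_right, hef] at this
    simpa [mul_comm] using this
  have ha0 : a ≠ 0 := left_ne_zero_of_mul_eq_one hab
  have hb0 : b ≠ 0 := right_ne_zero_of_mul_eq_one hab
  have key : ∀ w, polar Q e w = 0 → polar Q f w = 0 → z w = a • w ∧ Q w * (a - b) = 0 := by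
    intro w hew hfw
    have hwe : polar Q w e = 0 := by rw [polar_comm]; exact hew
    have hwf : polar Q w f = 0 := by rw [polar_comm]; exact hfw
    set c := Q w with hc
    set u := e + (-c) • f + w with hu
    have hQu : Q u = 0 := by
      rw [hu, QuadraticMap.map_add (⇑Q), Q_add_smul, he, hf, hef, polar_add_left, polar_smul_left,
        hew, hfw, ← hc]
      simp
    have huf : polar Q u f = 1 := by
      rw [hu, polar_add_left, polar_add_left, polar_smul_left, hef, hff, hwf]; simp
    set w1 := w0 + (-polar Q w w0) • f with hw1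
    have hQw1 : Q w1 ≠ 0 := by
      rw [hw1, Q_add_smul, hf, polar_comm Q w0 f, hw0f]; simpa using hw0
    have huw1 : polar Q u w1 = 0 := by
      rw [hw1, polar_add_right, polar_smul_right, huf, hu, polar_add_left, polar_add_left,
        polar_smul_left, hw0e, hw0f]
      simp
    have hfw1 : polar Q f w1 = 0 := by
      rw [hw1, polar_add_right, polar_smul_right, hff, hw0f]; simp
    obtain ⟨μ, hμ⟩ := eigen_of_commute hQ hQu huf hQw1 huw1 hfw1 z hz hcomm
    have hzw : z w = (μ - a) • e + (-(c * (μ - b))) • f + μ • w := by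
      have h1 : z u = a • e + (-c) • (b • f) + z w := by
        rw [hu, map_add, map_add, map_smul, ha, hb]
      have h2 : z w = z u - a • e - (-c) • (b • f) := by rw [h1]; abel
      rw [h2, hμ, hu]
      module
    have h3 : polar Q (z w) f = 0 := by
      have := OQ_polar hz w f
      rw [hb, polar_smul_right, hwf, smul_eq_mul] at this
      exact (mul_eq_zero.1 this).resolve_left hb0
    have h4 : polar Q (z w) e = 0 := by
      have := OQ_polar hz w e
      rw [ha, polar_smul_right, hwe, smul_eq_mul] at this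
      exact (mul_eq_zero.1 this).resolve_left ha0
    rw [hzw, polar_add_left, polar_add_left, polar_smul_left, polar_smul_left, polar_smul_left,
      hef, hff, hwf] at h3
    rw [hzw, polar_add_left, polar_add_left, polar_smul_left, polar_smul_left, polar_smul_left,
      hee, hfe, hwe] at h4
    simp only [smul_eq_mul, mul_one, mul_zero, add_zero, zero_add] at h3 h4
    have hμa : μ = a := sub_eq_zero.1 h3
    rw [hμa] at h4 hzw
    have h5 : c * (a - b) = 0 := by simpa using h4
    refine ⟨?_, h5⟩
    rw [hzw, h5]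
    simp
  have hab' : a = b := by
    have := (key w0 hw0e hw0f).2
    exact sub_eq_zero.1 ((mul_eq_zero.1 this).resolve_left hw0)
  refine ⟨a, by rw [_root_.sq]; nth_rewrite 2 [hab']; exact hab, fun x => ?_⟩
  set x' := x - polar Q x f • e - polar Q x e • f with hx'
  have h1 : polar Q e x' = 0 := by
    rw [hx', polar_sub_right, polar_sub_right, polar_smul_right, polar_smul_right, hee, hef,
      polar_comm Q e x]
    simp
  have h2 : polar Q f x' = 0 := by
    rw [hx', polar_sub_right, polar_sub_right, polar_smul_right, polar_smul_right, hff, hfe,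
      polar_comm Q f x]
    simp
  have h3 : x = x' + polar Q x f • e + polar Q x e • f := by rw [hx']; abel
  conv_lhs => rw [h3]
  rw [map_add, map_add, map_smul, map_smul, ha, hb, (key x' h1 h2).1, ← hab']
  conv_rhs => rw [h3]
  module

end Cfsg.Agent.Lib.Helper5
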