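import Mathlib
import Cfsg.Agent.Lib.Helper5.OmegaCenter
import Cfsg.Agent.Lib.Helper44.Transport

set_option autoImplicit false

namespace Cfsg.Agent.Lib.Helper5

open Matrix QuadraticMap Cfsg.Agent.Lib.Helper44

variable {F : Type*} [Field F] {ι : Type} [Fintype ι] [DecidableEq ι]

/-- Central elements of `Ω(Q)` are `±1`. -/
theorem center_Omega_scalar (Q : QuadraticForm F (ι → F))
    (hQ : (polarBilin Q).Nondegenerate) {e f w0 : ι → F} (he : Q e = 0) (hf : Q f = 0)
    (hef : polar Q e f = 1) (hw0 : Q w0 ≠ 0) (hw0e : polar Q e w0 = 0) (hw0f : polar Q f w0 = 0)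
    (z : Cfsg.Omega F ⇑Q) (hz : z ∈ Subgroup.center (Cfsg.Omega F ⇑Q)) :
    z.1.1.1 = 1 ∨ z.1.1.1 = -1 := by
  obtain ⟨α, hα, hzα⟩ := scalar_of_commute hQ he hf hef hw0 hw0e hw0f (isoEquiv Q z.1).1
    (isoEquiv Q z.1).2 (by
      intro g' hg'
      have hg : (isoEquiv Q).symm g' ∈ Cfsg.Omega F ⇑Q := by
        rw [mem_Omega_iff, MulEquiv.apply_symm_apply]; exact hg'
      have h1 := (Subgroup.mem_center_iff.1 hz) ⟨_, hg⟩
      have h2 : (isoEquiv Q).symm g' * z.1 = z.1 * (isoEquiv Q).symm g' := congrArg Subtype.val h1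
      have h3 := congrArg (isoEquiv Q) h2
      rw [map_mul, map_mul, MulEquiv.apply_symm_apply] at h3
      exact (congrArg Subtype.val h3).symm)
  have h1 : ∀ x, z.1.1.1 *ᵥ x = α • x := by
    intro x
    rw [← hzα x, isoEquiv_apply]
  have h2 : (α - 1) * (α + 1) = 0 := by linear_combination hα
  rcases mul_eq_zero.1 h2 with h | h
  · left
    apply matrix_ext_mulVec
    intro x
    rw [h1, sub_eq_zero.1 h, one_smul, Matrix.one_mulVec]
  · right
    apply matrix_ext_mulVec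
    intro x
    rw [h1, eq_neg_of_add_eq_zero_left h, Matrix.neg_mulVec, Matrix.one_mulVec, neg_smul, one_smul]

theorem card_center_Omega_eq_one (Q : QuadraticForm F (ι → F))
    (hQ : (polarBilin Q).Nondegenerate) {e f w0 : ι → F} (he : Q e = 0) (hf : Q f = 0)
    (hef : polar Q e f = 1) (hw0 : Q w0 ≠ 0) (hw0e : polar Q e w0 = 0) (hw0f : polar Q f w0 = 0)
    (h : (2 : F) = 0 ∨ ¬ ∃ g : ↥(Cfsg.isometryGroup F ⇑Q), g ∈ Cfsg.Omega F ⇑Q ∧
      ((g : Matrix.GeneralLinearGroup ι F) : Matrix ι ι F) = -1) :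
    Nat.card (Subgroup.center (Cfsg.Omega F ⇑Q)) = 1 := by
  rw [Subgroup.card_eq_one, Subgroup.eq_bot_iff_forall]
  intro z hz
  have key : z.1.1.1 = 1 := by
    rcases center_Omega_scalar Q hQ he hf hef hw0 hw0e hw0f z hz with h1 | h1
    · exact h1
    · rcases h with h | h
      · rw [h1]
        have : (-1 : F) = 1 := by linear_combination -h
        ext i j
        by_cases hij : i = j
        · subst hij; simp [this]
        · simp [hij]
      · exact absurd ⟨z.1, z.2, h1⟩ h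
  exact Subtype.ext (Subtype.ext (Units.ext key))

theorem card_center_Omega_eq_two [Nonempty ι] (Q : QuadraticForm F (ι → F))
    (hQ : (polarBilin Q).Nondegenerate) {e f w0 : ι → F} (he : Q e = 0) (hf : Q f = 0)
    (hef : polar Q e f = 1) (hw0 : Q w0 ≠ 0) (hw0e : polar Q e w0 = 0) (hw0f : polar Q f w0 = 0)
    (h2 : (2 : F) ≠ 0) (h : ∃ g : ↥(Cfsg.isometryGroup F ⇑Q), g ∈ Cfsg.Omega F ⇑Q ∧
      ((g : Matrix.GeneralLinearGroup ι F) : Matrix ι ι F) = -1) :
    Nat.card (Subgroup.center (Cfsg.Omega F ⇑Q)) = 2 := by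
  obtain ⟨g, hg, hg1⟩ := h
  have hc : (⟨g, hg⟩ : Cfsg.Omega F ⇑Q) ∈ Subgroup.center (Cfsg.Omega F ⇑Q) := by
    rw [Subgroup.mem_center_iff]
    intro x
    apply Subtype.ext
    apply Subtype.ext
    apply Units.ext
    change x.1.1.1 * g.1.1 = g.1.1 * x.1.1.1
    rw [hg1]
    simp
  rw [Nat.card_eq_two_iff]
  refine ⟨1, ⟨⟨g, hg⟩, hc⟩, ?_, ?_⟩
  · intro h
    have h1 : (1 : Matrix ι ι F) = g.1.1 :=
      congrArg (fun z : Subgroup.center (Cfsg.Omega F ⇑Q) => z.1.1.1.1) h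
    rw [hg1] at h1
    obtain ⟨i⟩ := ‹Nonempty ι›
    have h3 := congrFun (congrFun h1 i) i
    simp only [Matrix.one_apply_eq, Matrix.neg_apply] at h3
    apply h2
    linear_combination h3
  · rw [Set.eq_univ_iff_forall]
    rintro ⟨z, hz⟩
    rcases center_Omega_scalar Q hQ he hf hef hw0 hw0e hw0f z hz with h1 | h1
    · left
      exact Subtype.ext (Subtype.ext (Subtype.ext (Units.ext h1)))
    · right
      exact Subtype.ext (Subtype.ext (Subtype.ext (Units.ext (h1.trans hg1.symm))))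

end Cfsg.Agent.Lib.Helper5
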