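import Mathlib
import Cfsg.Agent.Lib.Helper5.OmegaCenterMat
import Cfsg.Agent.Lib.Helper44.StdForms
import Cfsg.Agent.Lib.Helper44.Index
import Cfsg.Agent.Lib.Helper44.HypInv

set_option autoImplicit false

namespace Cfsg.Agent.Lib.Helper5

open Matrix QuadraticMap Cfsg.Agent.Lib.Helper44

variable {F : Type*} [Field F] {ι : Type} [Fintype ι] [DecidableEq ι]

theorem card_POmega_mul (Q : (ι → F) → F) :
    Nat.card (Cfsg.POmega F Q) * Nat.card (Subgroup.center (Cfsg.Omega F Q)) * (Cfsg.Omega F Q).index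
      = Nat.card (Cfsg.isometryGroup F Q) := by
  rw [← Subgroup.card_eq_card_quotient_mul_card_subgroup, Subgroup.card_mul_index]

theorem index_Omega_odd [Fintype F] (h2 : (2 : F) ≠ 0) (Q : QuadraticForm F (ι → F))
    (hQ : (polarBilin Q).Nondegenerate) (hn : 2 ≤ Fintype.card ι) :
    (Cfsg.Omega F ⇑Q).index = 4 := by
  rw [Cfsg.Omega, index_commutator_of_mulEquiv (isoEquiv Q)]
  exact index_commutator_odd h2 hQ (by simpa using hn)

theorem index_Omega_even [Fintype F] [CharP F 2] (Q : QuadraticForm F (ι → F))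
    (hQ : (polarBilin Q).Nondegenerate) (hn : 5 ≤ Fintype.card ι) :
    (Cfsg.Omega F ⇑Q).index = 2 := by
  rw [Cfsg.Omega, index_commutator_of_mulEquiv (isoEquiv Q)]
  exact index_commutator_char_two hQ (Or.inr (by simp; omega)) (by simp; omega)

/-- Elements of `Ω` have determinant one. -/
theorem det_eq_one_of_mem_Omega (Q : (ι → F) → F) (g : Cfsg.isometryGroup F Q)
    (hg : g ∈ Cfsg.Omega F Q) : g.1.1.det = 1 := by
  have h := Abelianization.commutator_subset_ker
    (Matrix.GeneralLinearGroup.det.comp (Cfsg.isometryGroup F Q).subtype) hg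
  rw [MonoidHom.mem_ker] at h
  have := congrArg Units.val h
  simpa using this

lemma gcd_four (n : ℕ) : Nat.gcd 4 n = Nat.gcd (n % 4) 4 := Nat.gcd_rec 4 n

end Cfsg.Agent.Lib.Helper5
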