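import Mathlib

set_option autoImplicit false

namespace Cfsg.Agent.Lib.Helper5

open Matrix

variable {F : Type*} [Field F]

/-- The `p`-part of `|GL_n(q)|`. -/
theorem card_sylow_char_GL [Fintype F] (p : ℕ) [Fact p.Prime] [CharP F p] (n : ℕ)
    (P : Sylow p (GL (Fin n) F)) : Nat.card P = Fintype.card F ^ (n * (n - 1) / 2) := by
  have hp : p.Prime := Fact.out
  obtain ⟨e, _, he⟩ := FiniteField.card F p
  rw [Sylow.card_eq_multiplicity, Matrix.card_GL_field]
  set q := Fintype.card F with hq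
  have hq1 : 1 ≤ q := Fintype.card_pos
  have h1 : ∏ i : Fin n, (q ^ n - q ^ (i : ℕ)) =
      q ^ (n * (n - 1) / 2) * ∏ i : Fin n, (q ^ (n - (i : ℕ)) - 1) := by
    rw [← Finset.sum_range_id, ← Fin.sum_univ_eq_sum_range (fun i => i) n,
      ← Finset.prod_pow_eq_pow_sum, ← Finset.prod_mul_distrib]
    refine Finset.prod_congr rfl fun i _ => ?_
    rw [Nat.mul_sub, mul_one, ← pow_add, Nat.add_sub_cancel' i.2.le]
  have h2 : ¬ p ∣ ∏ i : Fin n, (q ^ (n - (i : ℕ)) - 1) := by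
    rw [hp.prime.dvd_finsetProd_iff]
    rintro ⟨i, _, hi⟩
    have hk : n - (i : ℕ) ≠ 0 := by have := i.2; omega
    have h3 : p ∣ q ^ (n - (i : ℕ)) := by
      rw [he]
      exact dvd_pow (dvd_pow_self p e.ne_zero) hk
    have h4 : 1 ≤ q ^ (n - (i : ℕ)) := Nat.one_le_pow _ _ hq1
    have h5 := (Nat.dvd_sub_iff_right h4 h3).1 hi
    exact hp.one_lt.ne' (Nat.dvd_one.1 h5)
  have h2' : ∏ i : Fin n, (q ^ (n - (i : ℕ)) - 1) ≠ 0 := fun h => h2 (h ▸ dvd_zero p)
  rw [h1, Nat.factorization_mul (pow_ne_zero _ (by omega)) h2', Finsupp.add_apply,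
    Nat.factorization_eq_zero_of_not_dvd h2, add_zero, he, ← pow_mul, hp.factorization_pow,
    Finsupp.single_eq_same]

/-! ### `GL_2` -/

lemma gl2_mul_00 (g h : GL (Fin 2) F) : (g * h) 0 0 = g 0 0 * h 0 0 + g 0 1 * h 1 0 := by
  simp [Matrix.mul_apply, Fin.sum_univ_two]
lemma gl2_mul_01 (g h : GL (Fin 2) F) : (g * h) 0 1 = g 0 0 * h 0 1 + g 0 1 * h 1 1 := by
  simp [Matrix.mul_apply, Fin.sum_univ_two]
lemma gl2_mul_10 (g h : GL (Fin 2) F) : (g * h) 1 0 = g 1 0 * h 0 0 + g 1 1 * h 1 0 := by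
  simp [Matrix.mul_apply, Fin.sum_univ_two]
lemma gl2_mul_11 (g h : GL (Fin 2) F) : (g * h) 1 1 = g 1 0 * h 0 1 + g 1 1 * h 1 1 := by
  simp [Matrix.mul_apply, Fin.sum_univ_two]

lemma gl2_ext {g h : GL (Fin 2) F} (h00 : g 0 0 = h 0 0) (h01 : g 0 1 = h 0 1)
    (h10 : g 1 0 = h 1 0) (h11 : g 1 1 = h 1 1) : g = h := by
  apply Matrix.GeneralLinearGroup.ext
  intro i j
  fin_cases i <;> fin_cases j <;> assumption

lemma gl2_det_ne (g : GL (Fin 2) F) : g 0 0 * g 1 1 - g 0 1 * g 1 0 ≠ 0 := by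
  have h := Matrix.GeneralLinearGroup.det_ne_zero g
  rwa [Matrix.det_fin_two] at h

/-- upper triangular element of `GL_2`. -/
noncomputable def mkB (a d : Fˣ) (b : F) : GL (Fin 2) F :=
  Matrix.GeneralLinearGroup.mkOfDetNeZero !![(a : F), b; 0, (d : F)] (by simp [Matrix.det_fin_two_of])

@[simp] lemma mkB_00 (a d : Fˣ) (b : F) : mkB a d b 0 0 = a := rfl
@[simp] lemma mkB_01 (a d : Fˣ) (b : F) : mkB a d b 0 1 = b := rfl
@[simp] lemma mkB_10 (a d : Fˣ) (b : F) : mkB a d b 1 0 = 0 := rfl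
@[simp] lemma mkB_11 (a d : Fˣ) (b : F) : mkB a d b 1 1 = d := rfl

/-- The Borel subgroup of `GL_2`. -/
def borelGL2 (F : Type*) [Field F] : Subgroup (GL (Fin 2) F) where
  carrier := {g | g 1 0 = 0}
  one_mem' := by simp
  mul_mem' := by
    intro g h hg hh
    simp only [Set.mem_ofPred_eq] at hg hh ⊢
    rw [gl2_mul_10, hg, hh]; ring
  inv_mem' := by
    intro g hg
    simp only [Set.mem_ofPred_eq] at hg ⊢
    have h1 : (g⁻¹ * g) 1 0 = 0 := by rw [inv_mul_cancel]; simp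
    rw [gl2_mul_10, hg, mul_zero, add_zero] at h1
    have h2 := gl2_det_ne g
    rw [hg, mul_zero, sub_zero] at h2
    exact (mul_eq_zero.1 h1).resolve_right (left_ne_zero_of_mul h2)

lemma mem_borelGL2 {g : GL (Fin 2) F} : g ∈ borelGL2 F ↔ g 1 0 = 0 := Iff.rfl

/-- The unipotent radical of the Borel subgroup of `GL_2`. -/
def uniGL2 (F : Type*) [Field F] : Subgroup (GL (Fin 2) F) where
  carrier := {g | g 0 0 = 1 ∧ g 1 0 = 0 ∧ g 1 1 = 1}
  one_mem' := by simp
  mul_mem' := by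
    rintro g h ⟨g0, g1, g2⟩ ⟨h0, h1, h2⟩
    refine ⟨?_, ?_, ?_⟩
    · rw [gl2_mul_00, g0, h0, h1]; ring
    · rw [gl2_mul_10, g1, h1]; ring
    · rw [gl2_mul_11, g1, g2, h2]; ring
  inv_mem' := by
    rintro g ⟨g0, g1, g2⟩
    have h00 : (g⁻¹ * g) 0 0 = 1 := by rw [inv_mul_cancel]; simp
    have h10 : (g⁻¹ * g) 1 0 = 0 := by rw [inv_mul_cancel]; simp
    have h11 : (g⁻¹ * g) 1 1 = 1 := by rw [inv_mul_cancel]; simp
    rw [gl2_mul_00, g0, g1] at h00
    rw [gl2_mul_10, g0, g1] at h10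
    rw [gl2_mul_11, g2] at h11
    have e10 : g⁻¹ 1 0 = 0 := by linear_combination h10
    refine ⟨by linear_combination h00, e10, ?_⟩
    rw [e10] at h11
    linear_combination h11

lemma mem_uniGL2 {g : GL (Fin 2) F} : g ∈ uniGL2 F ↔ g 0 0 = 1 ∧ g 1 0 = 0 ∧ g 1 1 = 1 := Iff.rfl

lemma mkB_bijective : Function.Bijective
    (fun x : Fˣ × Fˣ × F => (⟨mkB x.1 x.2.1 x.2.2, rfl⟩ : borelGL2 F)) := by
  constructor
  · rintro ⟨a, d, b⟩ ⟨a', d', b'⟩ h
    have h' := congrArg Subtype.val h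
    simp only at h'
    have h0 := congrArg (fun g : GL (Fin 2) F => g 0 0) h'
    have h1 := congrArg (fun g : GL (Fin 2) F => g 0 1) h'
    have h2 := congrArg (fun g : GL (Fin 2) F => g 1 1) h'
    simp only [mkB_00, mkB_01, mkB_11] at h0 h1 h2
    rw [Units.ext h0, Units.ext h2, h1]
  · rintro ⟨g, hg⟩
    have hg' : g 1 0 = 0 := hg
    have h2 := gl2_det_ne g
    rw [hg', mul_zero, sub_zero] at h2
    refine ⟨⟨Units.mk0 _ (left_ne_zero_of_mul h2), Units.mk0 _ (right_ne_zero_of_mul h2), g 0 1⟩, ?_⟩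
    apply Subtype.ext
    exact gl2_ext rfl rfl hg'.symm rfl

lemma card_borelGL2 [Fintype F] :
    Nat.card (borelGL2 F) = Fintype.card F * (Fintype.card F - 1) ^ 2 := by
  classical
  rw [← Nat.card_congr (Equiv.ofBijective _ (mkB_bijective (F := F))), Nat.card_prod, Nat.card_prod,
    Nat.card_eq_fintype_card, Nat.card_eq_fintype_card, Fintype.card_units]
  ring

lemma mkU_bijective : Function.Bijective
    (fun b : F => (⟨mkB 1 1 b, by simp [mem_uniGL2]⟩ : uniGL2 F)) := by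
  constructor
  · intro b b' h
    have h' := congrArg Subtype.val h
    exact congrArg (fun g : GL (Fin 2) F => g 0 1) h'
  · rintro ⟨g, g0, g1, g2⟩
    refine ⟨g 0 1, ?_⟩
    apply Subtype.ext
    exact gl2_ext (by simp [g0]) rfl g1.symm (by simp [g2])

lemma card_uniGL2 [Fintype F] : Nat.card (uniGL2 F) = Fintype.card F := by
  rw [← Nat.card_congr (Equiv.ofBijective _ (mkU_bijective (F := F))), Nat.card_eq_fintype_card]

/-- Fact B. -/
lemma borel_of_conj_mem {g x : GL (Fin 2) F} (hx : x ∈ uniGL2 F) (hx1 : x ≠ 1)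
    (h : g * x * g⁻¹ ∈ uniGL2 F) : g ∈ borelGL2 F := by
  obtain ⟨x0, x1, x2⟩ := hx
  obtain ⟨y0, y1, y2⟩ := h
  have e : (g * x * g⁻¹ * g) 1 1 = (g * x) 1 1 := by rw [inv_mul_cancel_right]
  rw [gl2_mul_11 _ g, y1, y2, gl2_mul_11, x2] at e
  have hx01 : x 0 1 ≠ 0 := by
    intro h01
    exact hx1 (gl2_ext (by simp [x0]) (by simp [h01]) (by simp [x1]) (by simp [x2]))
  have : g 1 0 * x 0 1 = 0 := by linear_combination -e
  exact (mul_eq_zero.1 this).resolve_right hx01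

/-- Fact C. -/
lemma conj_mem_uni_of_borel {g x : GL (Fin 2) F} (hg : g ∈ borelGL2 F) (hx : x ∈ uniGL2 F) :
    g * x * g⁻¹ ∈ uniGL2 F := by
  obtain ⟨x0, x1, x2⟩ := hx
  have hg' : g 1 0 = 0 := hg
  have h2 := gl2_det_ne g
  rw [hg', mul_zero, sub_zero] at h2
  have ha := left_ne_zero_of_mul h2
  have hd := right_ne_zero_of_mul h2
  have e : g * x * g⁻¹ * g = g * x := by rw [inv_mul_cancel_right]
  have e00 := congrArg (fun g : GL (Fin 2) F => g 0 0) e
  have e10 := congrArg (fun g : GL (Fin 2) F => g 1 0) e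
  have e11 := congrArg (fun g : GL (Fin 2) F => g 1 1) e
  rw [gl2_mul_00 _ g, gl2_mul_00 g x, hg', x0, x1] at e00
  rw [gl2_mul_10 _ g, gl2_mul_10 g x, hg', x0, x1] at e10
  rw [gl2_mul_11 _ g, gl2_mul_11 g x, hg', x2] at e11
  have y10 : (g * x * g⁻¹) 1 0 = 0 := by
    have : (g * x * g⁻¹) 1 0 * g 0 0 = 0 := by linear_combination e10
    exact (mul_eq_zero.1 this).resolve_right ha
  refine ⟨?_, y10, ?_⟩
  · apply mul_right_cancel₀ ha
    linear_combination e00
  · rw [y10] at e11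
    apply mul_right_cancel₀ hd
    linear_combination e11

lemma normalizer_uniGL2 : Subgroup.normalizer ((uniGL2 F : Subgroup (GL (Fin 2) F)) : Set (GL (Fin 2) F))
    = borelGL2 F := by
  ext g
  rw [Subgroup.mem_normalizer_iff]
  constructor
  · intro h
    have h1 : mkB 1 1 1 ∈ uniGL2 F := by simp [mem_uniGL2]
    refine borel_of_conj_mem h1 ?_ ((h _).1 h1)
    intro h2
    have := congrArg (fun g : GL (Fin 2) F => g 0 1) h2
    simp at this
  · intro hg x
    refine ⟨conj_mem_uni_of_borel hg, fun h => ?_⟩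
    have := conj_mem_uni_of_borel (inv_mem hg) h
    simpa [mul_assoc] using this

/-- `U` as a Sylow subgroup. -/
noncomputable def uniSylow (F : Type*) [Field F] [Fintype F] (p : ℕ) [Fact p.Prime] [CharP F p] :
    Sylow p (GL (Fin 2) F) :=
  Sylow.ofCard (uniGL2 F) (by
    obtain ⟨P⟩ : Nonempty (Sylow p (GL (Fin 2) F)) := inferInstance
    rw [← Sylow.card_eq_multiplicity P, card_sylow_char_GL p 2 P, card_uniGL2]
    simp)

lemma coe_uniSylow [Fintype F] (p : ℕ) [Fact p.Prime] [CharP F p] :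
    (uniSylow F p : Subgroup (GL (Fin 2) F)) = uniGL2 F := rfl

lemma card_GL2 [Fintype F] : Nat.card (GL (Fin 2) F) =
    (Fintype.card F + 1) * (Fintype.card F * (Fintype.card F - 1) ^ 2) := by
  rw [Matrix.card_GL_field]
  have hq : 1 ≤ Fintype.card F := Fintype.card_pos
  obtain ⟨k, hk⟩ : ∃ k, Fintype.card F = k + 1 := ⟨Fintype.card F - 1, by omega⟩
  simp only [Fin.prod_univ_two, Fin.val_zero, Fin.val_one, pow_zero, pow_one]
  rw [hk]
  have e1 : (k + 1) ^ 2 - 1 = k * (k + 2) := by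
    have : (k + 1) ^ 2 = k * (k + 2) + 1 := by ring
    omega
  have e2 : (k + 1) ^ 2 - (k + 1) = k * (k + 1) := by
    have : (k + 1) ^ 2 = k * (k + 1) + (k + 1) := by ring
    omega
  rw [e1, e2, Nat.add_sub_cancel]
  ring

theorem card_sylow_GL2 [Fintype F] (p : ℕ) [Fact p.Prime] [CharP F p] :
    Nat.card (Sylow p (GL (Fin 2) F)) = Fintype.card F + 1 := by
  have h1 : Nat.card (Sylow p (GL (Fin 2) F)) = (Subgroup.normalizer
    ((uniSylow F p : Subgroup (GL (Fin 2) F)) : Set (GL (Fin 2) F))).index :=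
    Sylow.card_eq_index_normalizer (uniSylow F p)
  have h2 := Subgroup.index_mul_card (Subgroup.normalizer
    ((uniSylow F p : Subgroup (GL (Fin 2) F)) : Set (GL (Fin 2) F)))
  rw [← h1, coe_uniSylow, normalizer_uniGL2, card_borelGL2, card_GL2] at h2
  have hq : 2 ≤ Fintype.card F := Fintype.one_lt_card
  have hpos : 0 < Fintype.card F * (Fintype.card F - 1) ^ 2 := by
    apply Nat.mul_pos (by omega)
    apply pow_pos; omega
  exact Nat.eq_of_mul_eq_mul_right hpos h2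

theorem card_normalizer_sylow_GL2 [Fintype F] (p : ℕ) [Fact p.Prime] [CharP F p]
    (P : Sylow p (GL (Fin 2) F)) :
    Nat.card (Subgroup.normalizer ((P : Subgroup (GL (Fin 2) F)) : Set (GL (Fin 2) F))) =
      Fintype.card F * (Fintype.card F - 1) ^ 2 := by
  have h1 : Nat.card (Sylow p (GL (Fin 2) F)) = (Subgroup.normalizer
    ((P : Subgroup (GL (Fin 2) F)) : Set (GL (Fin 2) F))).index :=
    Sylow.card_eq_index_normalizer P
  have h2 := Subgroup.index_mul_card (Subgroup.normalizer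
    ((P : Subgroup (GL (Fin 2) F)) : Set (GL (Fin 2) F)))
  rw [← h1, card_sylow_GL2, card_GL2] at h2
  exact Nat.eq_of_mul_eq_mul_left (Nat.succ_pos _) h2

lemma exists_sylow_GL2_conj [Fintype F] (p : ℕ) [Fact p.Prime] [CharP F p]
    (P : Sylow p (GL (Fin 2) F)) : ∃ g : GL (Fin 2) F, ∀ x, x ∈ P ↔ g⁻¹ * x * g ∈ uniGL2 F := by
  obtain ⟨g, hg⟩ := MulAction.exists_smul_eq (GL (Fin 2) F) (uniSylow F p) P
  refine ⟨g, fun x => ?_⟩
  rw [← hg]
  change x ∈ ((g • uniSylow F p : Sylow p (GL (Fin 2) F)) : Subgroup (GL (Fin 2) F)) ↔ _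
  rw [Sylow.coe_subgroup_smul, Subgroup.mem_pointwise_smul_iff_inv_smul_mem,
    coe_uniSylow]
  simp [MulAut.smul_def]

theorem sylow_GL2_inf_eq_bot [Fintype F] (p : ℕ) [Fact p.Prime] [CharP F p]
    (P Q : Sylow p (GL (Fin 2) F)) (h : P ≠ Q) :
    (P : Subgroup (GL (Fin 2) F)) ⊓ (Q : Subgroup (GL (Fin 2) F)) = ⊥ := by
  obtain ⟨g, hg⟩ := exists_sylow_GL2_conj p P
  obtain ⟨k, hk⟩ := exists_sylow_GL2_conj p Q
  rw [eq_bot_iff]
  rintro x ⟨hxP, hxQ⟩
  rw [Subgroup.mem_bot]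
  by_contra hx1
  apply h
  have h1 : g⁻¹ * x * g ∈ uniGL2 F := (hg x).1 hxP
  have h2 : k⁻¹ * x * k ∈ uniGL2 F := (hk x).1 hxQ
  have h3 : k⁻¹ * g ∈ borelGL2 F := by
    refine borel_of_conj_mem h1 ?_ ?_
    · intro h4
      apply hx1
      have : x = g * (g⁻¹ * x * g) * g⁻¹ := by group
      rw [this, h4]; group
    · have : k⁻¹ * g * (g⁻¹ * x * g) * (k⁻¹ * g)⁻¹ = k⁻¹ * x * k := by group
      rw [this]; exact h2
  ext y
  change y ∈ P ↔ y ∈ Q
  rw [hg, hk]
  constructor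
  · intro hy
    have := conj_mem_uni_of_borel h3 hy
    have e : k⁻¹ * g * (g⁻¹ * y * g) * (k⁻¹ * g)⁻¹ = k⁻¹ * y * k := by group
    rwa [e] at this
  · intro hy
    have := conj_mem_uni_of_borel (inv_mem h3) hy
    have e : (k⁻¹ * g)⁻¹ * (k⁻¹ * y * k) * (k⁻¹ * g)⁻¹⁻¹ = g⁻¹ * y * g := by group
    rwa [e] at this

lemma mkC_bijective (b : F) (hb : b ≠ 0) : Function.Bijective
    (fun x : Fˣ × F => (⟨mkB x.1 x.1 x.2, by
      rw [Subgroup.mem_centralizer_singleton_iff]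
      apply gl2_ext
      · rw [gl2_mul_00, gl2_mul_00]; simp
      · rw [gl2_mul_01, gl2_mul_01]; simp; ring
      · rw [gl2_mul_10, gl2_mul_10]; simp
      · rw [gl2_mul_11, gl2_mul_11]; simp⟩ :
      Subgroup.centralizer ({mkB 1 1 b} : Set (GL (Fin 2) F)))) := by
  constructor
  · rintro ⟨a, c⟩ ⟨a', c'⟩ h
    have h' := congrArg Subtype.val h
    have h0 := congrArg (fun g : GL (Fin 2) F => g 0 0) h'
    have h1 := congrArg (fun g : GL (Fin 2) F => g 0 1) h'
    simp only [mkB_00, mkB_01] at h0 h1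
    rw [Units.ext h0, h1]
  · rintro ⟨g, hg⟩
    rw [Subgroup.mem_centralizer_singleton_iff] at hg
    have e00 := congrArg (fun g : GL (Fin 2) F => g 0 0) hg
    have e01 := congrArg (fun g : GL (Fin 2) F => g 0 1) hg
    simp only [gl2_mul_00, gl2_mul_01, mkB_00, mkB_01, mkB_10, mkB_11, Units.val_one] at e00 e01
    have g10 : g 1 0 = 0 := by
      have : b * g 1 0 = 0 := by linear_combination -e00
      exact (mul_eq_zero.1 this).resolve_left hb
    have g11 : g 1 1 = g 0 0 := by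
      apply mul_left_cancel₀ hb
      linear_combination -e01
    have h2 := gl2_det_ne g
    rw [g10, mul_zero, sub_zero] at h2
    refine ⟨⟨Units.mk0 _ (left_ne_zero_of_mul h2), g 0 1⟩, ?_⟩
    apply Subtype.ext
    exact gl2_ext rfl rfl g10.symm g11.symm

theorem card_centralizer_unipotent_GL2 [Fintype F] (p : ℕ) [Fact p.Prime] [CharP F p]
    (P : Sylow p (GL (Fin 2) F)) (a : GL (Fin 2) F) (ha : a ∈ P) (ha1 : a ≠ 1) :
    Nat.card (Subgroup.centralizer ({a} : Set (GL (Fin 2) F))) =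
      Fintype.card F * (Fintype.card F - 1) := by
  classical
  obtain ⟨g, hg⟩ := exists_sylow_GL2_conj p P
  obtain ⟨u0, u1, u2⟩ := (hg a).1 ha
  set b := (g⁻¹ * a * g) 0 1 with hb
  have hu : g⁻¹ * a * g = mkB 1 1 b := gl2_ext (by simp [u0]) rfl (by simp [u1]) (by simp [u2])
  have hb0 : b ≠ 0 := by
    intro hb0
    apply ha1
    have : a = g * (g⁻¹ * a * g) * g⁻¹ := by group
    rw [this, hu, hb0]
    have : mkB (1 : Fˣ) 1 (0 : F) = 1 := gl2_ext (by simp) (by simp) (by simp) (by simp)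
    rw [this]; group
  have e : Subgroup.centralizer ({a} : Set (GL (Fin 2) F)) ≃
      Subgroup.centralizer ({mkB 1 1 b} : Set (GL (Fin 2) F)) :=
    Equiv.subtypeEquiv (MulAut.conj g⁻¹).toEquiv (by
      intro x
      rw [Subgroup.mem_centralizer_singleton_iff, Subgroup.mem_centralizer_singleton_iff, ← hu]
      simp only [MulEquiv.toEquiv_eq_coe, MulEquiv.coe_toEquiv, MulAut.conj_apply, inv_inv]
      constructor
      · intro h
        have : g⁻¹ * x * g * (g⁻¹ * a * g) = g⁻¹ * (x * a) * g := by group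
        rw [this, h]; group
      · intro h
        have e1 : x * a = g * (g⁻¹ * x * g * (g⁻¹ * a * g)) * g⁻¹ := by group
        rw [e1, h]; group)
  rw [Nat.card_congr e, ← Nat.card_congr (Equiv.ofBijective _ (mkC_bijective b hb0)), Nat.card_prod,
    Nat.card_eq_fintype_card, Nat.card_eq_fintype_card, Fintype.card_units]
  ring

end Cfsg.Agent.Lib.Helper5
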