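import Mathlib
import Cfsg.Agent.Lib.Helper5.FormWitt
import Cfsg.Agent.Lib.Helper5.QuadForms

set_option autoImplicit false

namespace Cfsg.Agent.Lib.Helper5

open Matrix QuadraticMap

section witt

variable {F V : Type*} [Field F] [AddCommGroup V] [Module F V]

/-- Witt's lemma for frames. -/
theorem exists_isometry_of_frames [Finite F] [FiniteDimensional F V] (Q : QuadraticForm F V)
    (hQ : (polarBilin Q).Nondegenerate) {κ : Type*} [Fintype κ]
    (x y : κ → V) (hx : LinearIndependent F x) (hy : LinearIndependent F y)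
    (h : ∀ c : κ → F, Q (∑ k, c k • x k) = Q (∑ k, c k • y k)) :
    ∃ g : V ≃ₗ[F] V, (∀ v, Q (g v) = Q v) ∧ ∀ k, g (x k) = y k := by
  let bx := Module.Basis.span hx
  let by' := Module.Basis.span hy
  let φ := bx.equiv by' (Equiv.refl κ)
  have h1 : ∀ z, ((z : Submodule.span F (Set.range x)) : V) = ∑ k, bx.repr z k • x k := by
    intro z
    have := congrArg Subtype.val (bx.sum_repr z)
    rw [← this]
    simp [bx, Module.Basis.span_apply]
  have h2 : ∀ z, ((φ z : Submodule.span F (Set.range y)) : V) = ∑ k, bx.repr z k • y k := by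
    intro z
    have : φ z = ∑ k, bx.repr z k • by' k := by
      conv_lhs => rw [← bx.sum_repr z]
      rw [map_sum]
      apply Finset.sum_congr rfl
      intro k _
      rw [map_smul]
      simp [φ]
    rw [this]
    simp [by', Module.Basis.span_apply]
  obtain ⟨g, hg1, hg2⟩ := Cfsg.Agent.S0750.result Q hQ _ _ φ (by
    intro z
    rw [h1, h2, h])
  refine ⟨g, hg1, fun k => ?_⟩
  have h3 := hg2 (bx k)
  have h4 : ((bx k : Submodule.span F (Set.range x)) : V) = x k :=
    congrArg Subtype.val (Module.Basis.span_apply hx k)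
  have h5 : φ (bx k) = by' k := by simp [φ]
  rw [h4, h5] at h3
  rw [h3]
  exact congrArg Subtype.val (Module.Basis.span_apply hy k)

lemma Q_hyperbolic_comb (Q : QuadraticForm F V) {u v : V} (hu : Q u = 0) (hv : Q v = 0)
    (huv : polar Q u v = 1) (s t : F) : Q (s • u + t • v) = s * t := by
  rw [QuadraticMap.map_add Q, QuadraticMap.map_smul, QuadraticMap.map_smul, hu, hv,
    polar_smul_left, polar_smul_right, huv]
  simp

lemma linearIndependent_hyperbolic (Q : QuadraticForm F V) {u v : V} (hu : Q u = 0) (hv : Q v = 0)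
    (huv : polar Q u v = 1) : LinearIndependent F ![u, v] := by
  rw [LinearIndependent.pair_iff]
  intro s t hst
  have h1 : polar Q (s • u + t • v) v = s := by
    rw [polar_add_left, polar_smul_left, polar_smul_left, huv, polar_self, hv]
    simp
  have h2 : polar Q (s • u + t • v) u = t := by
    rw [polar_add_left, polar_smul_left, polar_smul_left, polar_comm Q v u, huv, polar_self, hu]
    simp
  rw [hst] at h1 h2
  simp only [polar_zero_left] at h1 h2
  exact ⟨h1.symm, h2.symm⟩

/-- Transitivity on hyperbolic pairs. -/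
theorem exists_isometry_hyperbolic [Finite F] [FiniteDimensional F V] (Q : QuadraticForm F V)
    (hQ : (polarBilin Q).Nondegenerate) {u v u' v' : V} (hu : Q u = 0) (hv : Q v = 0)
    (huv : polar Q u v = 1) (hu' : Q u' = 0) (hv' : Q v' = 0) (huv' : polar Q u' v' = 1) :
    ∃ g : V ≃ₗ[F] V, (∀ w, Q (g w) = Q w) ∧ g u = u' ∧ g v = v' := by
  obtain ⟨g, hg1, hg2⟩ := exists_isometry_of_frames Q hQ ![u, v] ![u', v']
    (linearIndependent_hyperbolic Q hu hv huv) (linearIndependent_hyperbolic Q hu' hv' huv') (by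
      intro c
      simp only [Fin.sum_univ_two, Matrix.cons_val_zero, Matrix.cons_val_one]
      rw [Q_hyperbolic_comb Q hu hv huv, Q_hyperbolic_comb Q hu' hv' huv'])
  exact ⟨g, hg1, hg2 0, hg2 1⟩

lemma card_singular_polar_one (Q : QuadraticForm F V) {u : V} (hu : Q u = 0) :
    Nat.card {v // Q v = 0 ∧ polar Q u v = 1} * Nat.card F = Nat.card {v // polar Q u v = 1} := by
  rw [← Nat.card_prod]
  refine Nat.card_congr ⟨fun p => ⟨p.1.1 + p.2 • u, ?_⟩,
    fun w => (⟨w.1 - Q w.1 • u, ?_, ?_⟩, Q w.1), ?_, ?_⟩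
  · rw [polar_add_right, polar_smul_right, polar_self, hu, p.1.2.2]
    simp
  · have hw : polar Q w.1 u = 1 := by rw [polar_comm]; exact w.2
    rw [sub_eq_add_neg, ← neg_smul, QuadraticMap.map_add Q, QuadraticMap.map_smul, hu,
      polar_smul_right, hw]
    simp
  · rw [polar_sub_right, polar_smul_right, polar_self, hu, w.2]
    simp
  · rintro ⟨⟨v, hv0, hv1⟩, t⟩
    have hvu : polar Q v u = 1 := by rw [polar_comm]; exact hv1
    have : Q (v + t • u) = t := by
      rw [QuadraticMap.map_add Q, QuadraticMap.map_smul, hu, hv0, polar_smul_right, hvu]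
      simp
    simp [this]
  · rintro ⟨w, hw⟩
    simp

/-- The number of hyperbolic pairs. -/
theorem card_hyperbolic_pairs [Finite F] [FiniteDimensional F V] (Q : QuadraticForm F V)
    (hQ : (polarBilin Q).Nondegenerate) :
    Nat.card {p : V × V // Q p.1 = 0 ∧ Q p.2 = 0 ∧ polar Q p.1 p.2 = 1} * Nat.card F ^ 2
      = (Nat.card {u : V // Q u = 0} - 1) * Nat.card V := by
  classical
  have : Finite V := Module.finite_of_finite F
  have := Fintype.ofFinite {u : V // Q u = 0 ∧ u ≠ 0}
  have e : {p : V × V // Q p.1 = 0 ∧ Q p.2 = 0 ∧ polar Q p.1 p.2 = 1}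
      ≃ Σ u : {u : V // Q u = 0 ∧ u ≠ 0}, {v : V // Q v = 0 ∧ polar Q u.1 v = 1} :=
    ⟨fun p => ⟨⟨p.1.1, p.2.1, by
        intro h
        have := p.2.2.2
        rw [h, polar_zero_left] at this
        exact zero_ne_one this⟩, ⟨p.1.2, p.2.2⟩⟩,
      fun s => ⟨(s.1.1, s.2.1), s.1.2.1, s.2.2⟩, fun _ => rfl, fun _ => rfl⟩
  rw [Nat.card_congr e, Nat.card_sigma, Finset.sum_mul]
  have key : ∀ u : {u : V // Q u = 0 ∧ u ≠ 0},
      Nat.card {v : V // Q v = 0 ∧ polar Q u.1 v = 1} * Nat.card F ^ 2 = Nat.card V := by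
    intro u
    rw [_root_.sq, ← mul_assoc, card_singular_polar_one Q u.2.1]
    refine card_fiber_mul_card ((polarBilin Q u.1).toAddMonoidHom) ?_ 1
    obtain ⟨w, hw⟩ : ∃ w, polarBilin Q u.1 w ≠ 0 := by
      by_contra hcon
      push Not at hcon
      exact u.2.2 (hQ.1 u.1 hcon)
    intro t
    refine ⟨(t / polarBilin Q u.1 w) • w, ?_⟩
    change polarBilin Q u.1 ((t / polarBilin Q u.1 w) • w) = t
    rw [map_smul, smul_eq_mul, div_mul_cancel₀ _ hw]
  rw [Finset.sum_congr rfl (fun u _ => key u), Finset.sum_const, Finset.card_univ, smul_eq_mul,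
    ← Nat.card_eq_fintype_card]
  congr 1
  have h1 : Nat.card {u : V // Q u = 0} = Nat.card {u : V // Q u = 0 ∧ u ≠ 0} + 1 := by
    have e2 : {u : V // Q u = 0} ≃ Option {u : V // Q u = 0 ∧ u ≠ 0} :=
      ⟨fun u => if h : u.1 = 0 then none else some ⟨u.1, u.2, h⟩,
        fun o => o.elim ⟨0, map_zero Q⟩ (fun u => ⟨u.1, u.2.1⟩),
        fun u => by
          by_cases h : u.1 = 0
          · simp only [h, dite_true, Option.elim_none]
            exact Subtype.ext h.symm
          · simp [h],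
        fun o => by
          rcases o with _ | u
          · simp
          · simp [u.2.2]⟩
    rw [Nat.card_congr e2, Finite.card_option]
  omega

end witt

section split

variable {F : Type*} [Field F] [Fintype F]
variable {ι ι' : Type} [Fintype ι] [DecidableEq ι] [Fintype ι'] [DecidableEq ι']

/-- Recursion for the order of an orthogonal group: `Q = Q' ⊥ H`. -/
theorem card_isometryGroup_split (e : ι' ⊕ (Unit ⊕ Unit) ≃ ι) (Q : QuadraticForm F (ι → F))
    (hQ : (polarBilin Q).Nondegenerate) (Q' : (ι' → F) → F)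
    (hsplit : ∀ x, Q x = Q' (fun i => x (e (.inl i)))
      + x (e (.inr (.inl ()))) * x (e (.inr (.inr ())))) :
    Nat.card (Cfsg.isometryGroup F ⇑Q)
      = (Nat.card {x : ι → F // Q x = 0} - 1) * Fintype.card F ^ Fintype.card ι'
        * Nat.card (Cfsg.isometryGroup F Q') := by
  have hQ'0 : Q' 0 = 0 := by
    have := hsplit 0
    simp only [map_zero, Pi.zero_apply, mul_zero, add_zero] at this
    exact this.symm
  set e1 : ι → F := Pi.single (e (.inr (.inl ()))) 1 with he1
  set f1 : ι → F := Pi.single (e (.inr (.inr ()))) 1 with hf1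
  have he1' : (fun i => e1 (e (.inl i))) = (0 : ι' → F) := by
    funext i; simp [he1]
  have hf1' : (fun i => f1 (e (.inl i))) = (0 : ι' → F) := by
    funext i; simp [hf1]
  have hQe1 : Q e1 = 0 := by
    rw [hsplit, he1', hQ'0]; simp [he1]
  have hQf1 : Q f1 = 0 := by
    rw [hsplit, hf1', hQ'0]; simp [hf1]
  have hpf : ∀ x, polar Q x f1 = x (e (.inr (.inl ()))) := by
    intro x
    have h1 : (fun i => (x + f1) (e (.inl i))) = fun i => x (e (.inl i)) := by
      funext i; simp [hf1]
    rw [polar, hQf1, hsplit (x + f1), hsplit x, h1]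
    simp [hf1]
    ring
  have hpe : ∀ x, polar Q x e1 = x (e (.inr (.inr ()))) := by
    intro x
    have h1 : (fun i => (x + e1) (e (.inl i))) = fun i => x (e (.inl i)) := by
      funext i; simp [he1]
    rw [polar, hQe1, hsplit (x + e1), hsplit x, h1]
    simp [he1]
    ring
  have hbase : polar Q e1 f1 = 1 := by rw [hpf]; simp [he1]
  have hpres : ∀ A ∈ formGroup (fun (u : ι → F) (_ : ι → F) => Q u), ∀ x y,
      polar Q (A.1 *ᵥ x) (A.1 *ᵥ y) = polar Q x y := by
    intro A hA x y
    have h := fun u => hA u u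
    change ∀ u, Q (A.1 *ᵥ u) = Q u at h
    rw [polar, polar, ← Matrix.mulVec_add, h, h, h]
  change Nat.card (formGroup (fun (u : ι → F) (_ : ι → F) => Q u)) = _
  rw [card_formGroup_eq e (fun (u : ι → F) (_ : ι → F) => Q u) (fun u _ => Q' u)
    (fun z _ => z (.inl ()) * z (.inr ())) (fun x _ => hsplit x)]
  · congr 1
    have hH := card_hyperbolic_pairs Q hQ
    have hcard : Nat.card (ι → F) = Fintype.card F ^ Fintype.card ι' * Nat.card F ^ 2 := by
      rw [Nat.card_eq_fintype_card, Nat.card_eq_fintype_card, Fintype.card_fun,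
        ← Fintype.card_congr e]
      simp [pow_add]
    rw [hcard, ← mul_assoc] at hH
    have hpos : 0 < Nat.card F ^ 2 := pow_pos Nat.card_pos 2
    rw [← Nat.eq_of_mul_eq_mul_right hpos hH]
    let c : (Unit ⊕ Unit → (ι → F)) ≃ (ι → F) × (ι → F) :=
      ⟨fun y => (y (.inl ()), y (.inr ())), fun p => Sum.elim (fun _ => p.1) (fun _ => p.2),
        fun y => by ext (_ | _) <;> rfl, fun p => rfl⟩
    refine Nat.card_congr (Equiv.subtypeEquiv c (fun y => ?_))
    constructor
    · rintro ⟨A, rfl⟩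
      have h := fun u => A.2 u u
      change ∀ u, Q (A.1.1 *ᵥ u) = Q u at h
      refine ⟨?_, ?_, ?_⟩
      · change Q (A.1.1 *ᵥ e1) = 0
        rw [h, hQe1]
      · change Q (A.1.1 *ᵥ f1) = 0
        rw [h, hQf1]
      · change polar Q (A.1.1 *ᵥ e1) (A.1.1 *ᵥ f1) = 1
        rw [hpres A.1 A.2, hbase]
    · rintro ⟨hy1, hy2, hy3⟩
      obtain ⟨g, hg, hg1, hg2⟩ := exists_isometry_hyperbolic Q hQ hQe1 hQf1 hbase hy1 hy2 hy3
      obtain ⟨A, hA⟩ := exists_formGroup_of_linearEquiv (fun (u : ι → F) (_ : ι → F) => Q u) g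
        (fun u _ => hg u)
      refine ⟨A, ?_⟩
      funext k
      rcases k with _ | _
      · exact (hA e1).trans hg1
      · exact (hA f1).trans hg2
  · intro A hA hfix i k
    have hcol : ∀ a, A.1 a (e (Sum.inl i)) = (A.1 *ᵥ Pi.single (e (Sum.inl i)) 1) a := by
      intro a
      rw [Matrix.mulVec_single_one]
      rfl
    rw [hcol]
    rcases k with _ | _
    · rw [← hpf (A.1 *ᵥ Pi.single (e (Sum.inl i)) 1), hf1, ← hfix (.inr ()), hpres A hA, ← hf1, hpf]
      simp
    · rw [← hpe (A.1 *ᵥ Pi.single (e (Sum.inl i)) 1), he1, ← hfix (.inl ()), hpres A hA, ← he1, hpe]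
      simp

end split

end Cfsg.Agent.Lib.Helper5
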