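import Mathlib
import Cfsg.Agent.Lib.Helper13.FieldInvol
import Cfsg.Agent.Lib.Helper73.DihedralRec

set_option autoImplicit false

namespace Cfsg.Agent.Lib.Helper5

open QuadraticAlgebra

section

variable {F : Type*} [Field F] {a b : F}

local notation "E" => QuadraticAlgebra F (-b) a

lemma normE_mk (x y : F) : QuadraticAlgebra.norm (⟨x, y⟩ : E) = x ^ 2 + a * x * y + b * y ^ 2 := by
  rw [QuadraticAlgebra.norm_def]; ring

/-- The isometry group of the norm form of the quadratic algebra. -/
def OE (a b : F) : Subgroup (QuadraticAlgebra F (-b) a ≃ₗ[F] QuadraticAlgebra F (-b) a) where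
  carrier := {g | ∀ z, QuadraticAlgebra.norm (g z) = QuadraticAlgebra.norm z}
  mul_mem' {g h} hg hh := fun z => by
    rw [LinearEquiv.mul_apply, hg, hh]
  one_mem' := fun z => rfl
  inv_mem' {g} hg := fun z => by
    have := hg (g⁻¹ z)
    rw [← this]
    congr 1
    exact LinearEquiv.apply_symm_apply g z

/-- Conjugation as a linear equivalence. -/
def conjE (a b : F) : QuadraticAlgebra F (-b) a ≃ₗ[F] QuadraticAlgebra F (-b) a :=
  LinearEquiv.ofInvolutive
    { toFun := fun z => star z
      map_add' := fun z w => star_add z w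
      map_smul' := fun c z => by
        ext
        · simp; ring
        · simp }
    (fun z => star_star z)

lemma conjE_apply (z : E) : conjE a b z = star z := rfl

lemma conjE_mem : conjE a b ∈ OE a b := fun z => QuadraticAlgebra.norm_star z

lemma conjE_mul_self : conjE a b * conjE a b = 1 := by
  ext z : 1
  exact star_star z

end

section

variable {F : Type*} [Field F] {a b : F} [hfact : Fact (∀ r : F, r ^ 2 ≠ -b + a * r)]

local notation "E" => QuadraticAlgebra F (-b) a

/-- Multiplication by a unit. -/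
noncomputable def mulE (a b : F) [Fact (∀ r : F, r ^ 2 ≠ -b + a * r)] :
    (QuadraticAlgebra F (-b) a)ˣ →* (QuadraticAlgebra F (-b) a ≃ₗ[F] QuadraticAlgebra F (-b) a) :=
  DistribMulAction.toModuleAut F (QuadraticAlgebra F (-b) a)

lemma mulE_apply (u : Eˣ) (z : E) : mulE a b u z = u * z := rfl

/-- The group of elements of norm one. -/
noncomputable def normOne (a b : F) [Fact (∀ r : F, r ^ 2 ≠ -b + a * r)] :
    Subgroup (QuadraticAlgebra F (-b) a)ˣ :=
  (Units.map (QuadraticAlgebra.norm : QuadraticAlgebra F (-b) a →* F)).ker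

lemma mem_normOne (u : Eˣ) : u ∈ normOne a b ↔ QuadraticAlgebra.norm (u : E) = 1 := by
  rw [normOne, MonoidHom.mem_ker, Units.ext_iff]
  rfl

lemma mulE_mem (u : Eˣ) (hu : u ∈ normOne a b) : mulE a b u ∈ OE a b := by
  intro z
  rw [mulE_apply, map_mul, (mem_normOne u).1 hu, one_mul]

lemma mulE_injective : Function.Injective (mulE a b) := by
  intro u v h
  have := congrArg (fun g : E ≃ₗ[F] E => g 1) h
  simp only [mulE_apply, mul_one] at this
  exact Units.ext this

omit hfact in
lemma star_omega_ne (hD : a ^ 2 - 4 * b ≠ 0) : star (ω : E) ≠ ω := by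
  intro h
  have h1 := congrArg QuadraticAlgebra.re h
  have h2 := congrArg QuadraticAlgebra.im h
  simp at h1 h2
  apply hD
  have h4 : (4 : F) = 0 := by linear_combination (-2 : F) * h2
  rw [h1, h4]; ring

omit hfact in
lemma conjE_ne_one (hD : a ^ 2 - 4 * b ≠ 0) : conjE a b ≠ 1 := by
  intro h
  exact star_omega_ne hD (congrArg (fun g : E ≃ₗ[F] E => g ω) h)

omit hfact in
lemma linearEquiv_ext_E {g h : E ≃ₗ[F] E} (h1 : g 1 = h 1) (h2 : g ω = h ω) : g = h := by
  ext z : 1
  have : z = z.re • (1 : E) + z.im • (ω : E) := by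
    ext <;> simp
  rw [this, map_add, map_add, map_smul, map_smul, map_smul, map_smul, h1, h2]

/-- An isometry fixing `1` is the identity or the conjugation. -/
lemma eq_one_or_conjE (g : E ≃ₗ[F] E) (hg : g ∈ OE a b) (h1 : g 1 = 1) :
    g = 1 ∨ g = conjE a b := by
  obtain ⟨x, y, hw⟩ : ∃ x y, g ω = (⟨x, y⟩ : E) := ⟨_, _, rfl⟩
  have e1 : x ^ 2 + a * x * y + b * y ^ 2 = b := by
    have := hg ω
    rw [hw, normE_mk] at this
    rw [this, QuadraticAlgebra.norm_def]
    simp
  have e2 : 2 * x + a * y = a := by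
    have := hg (1 + ω)
    rw [map_add, h1, hw] at this
    have h3 : (1 + ⟨x, y⟩ : E) = ⟨1 + x, y⟩ := by ext <;> simp
    have h4 : (1 + ω : E) = ⟨1, 1⟩ := by ext <;> simp
    rw [h3, h4, normE_mk, normE_mk] at this
    linear_combination this - e1
  have key : ((⟨x, y⟩ : E) - ω) * ((⟨x, y⟩ : E) - star ω) = 0 := by
    ext
    · simp
      linear_combination -e1 + x * e2
    · simp
      linear_combination y * e2
  rcases mul_eq_zero.1 key with h | h
  · left
    apply linearEquiv_ext_E
    · exact h1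
    · rw [hw]; exact sub_eq_zero.1 h
  · right
    apply linearEquiv_ext_E
    · rw [h1, conjE_apply, star_one]
    · rw [hw, conjE_apply]; exact sub_eq_zero.1 h

/-- Structure of the isometry group of the norm form. -/
lemma OE_cases (g : E ≃ₗ[F] E) (hg : g ∈ OE a b) :
    ∃ u ∈ normOne a b, g = mulE a b u ∨ g = mulE a b u * conjE a b := by
  have hn : QuadraticAlgebra.norm (g 1) = 1 := by rw [hg, map_one]
  have h0 : g 1 ≠ 0 := by
    intro h
    rw [h, QuadraticAlgebra.norm_zero] at hn
    exact zero_ne_one hn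
  let u : Eˣ := Units.mk0 (g 1) h0
  have hu : u ∈ normOne a b := (mem_normOne u).2 hn
  refine ⟨u, hu, ?_⟩
  have h2 := eq_one_or_conjE ((mulE a b u)⁻¹ * g)
    ((OE a b).mul_mem ((OE a b).inv_mem (mulE_mem u hu)) hg) (by
      rw [LinearEquiv.mul_apply, ← map_inv, mulE_apply]
      change ((u⁻¹ : Eˣ) : E) * (u : E) = 1
      rw [← Units.val_mul, inv_mul_cancel, Units.val_one])
  rcases h2 with h | h
  · left
    rw [inv_mul_eq_one] at h
    exact h.symm
  · right
    rw [← h, mul_inv_cancel_left]

lemma conjE_mul_mulE (u : Eˣ) (hu : u ∈ normOne a b) :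
    conjE a b * mulE a b u * (conjE a b)⁻¹ = (mulE a b u)⁻¹ := by
  have hc : (conjE a b)⁻¹ = conjE a b := inv_eq_of_mul_eq_one_left conjE_mul_self
  rw [hc, ← map_inv]
  ext z : 1
  rw [LinearEquiv.mul_apply, LinearEquiv.mul_apply, conjE_apply, conjE_apply, mulE_apply, mulE_apply,
    star_mul, star_star, mul_comm]
  congr 1
  have h1 : (u : E) * star (u : E) = 1 := by
    rw [← QuadraticAlgebra.algebraMap_norm_eq_mul_star, (mem_normOne u).1 hu, map_one]
  rw [← Units.inv_eq_val_inv]
  exact (Units.inv_eq_of_mul_eq_one_right h1).symm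

lemma conjE_ne_mulE (hD : a ^ 2 - 4 * b ≠ 0) (u : Eˣ) : conjE a b ≠ mulE a b u := by
  intro h
  have h1 := congrArg (fun g : E ≃ₗ[F] E => g 1) h
  simp only [conjE_apply, mulE_apply, star_one, mul_one] at h1
  have hu : u = 1 := Units.ext h1.symm
  rw [hu, map_one] at h
  exact conjE_ne_one hD h

omit hfact in
lemma card_E [Fintype F] : Nat.card E = Fintype.card F ^ 2 := by
  rw [Nat.card_congr (QuadraticAlgebra.equivProd (-b) a), Nat.card_prod, Nat.card_eq_fintype_card, sq]

lemma norm_units_surjective [Finite F] (hD : a ^ 2 - 4 * b ≠ 0) :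
    Function.Surjective (Units.map (QuadraticAlgebra.norm : E →* F)) := by
  have : Finite E := Finite.of_equiv _ (QuadraticAlgebra.equivProd (-b) a).symm
  intro r
  obtain ⟨c, hc⟩ := Cfsg.Agent.Lib.Helper13.norm_surj (starRingEnd E)
    (by
      intro h
      exact star_omega_ne hD (congrArg (fun f : E →+* E => f ω) h))
    (fun z => star_star z) (algebraMap F E r)
    (by
      intro h
      exact r.ne_zero ((map_eq_zero _).1 h))
    (by
      change star (algebraMap F E r) = _
      ext <;> simp [QuadraticAlgebra.algebraMap_eq])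
  change c * star c = _ at hc
  rw [← QuadraticAlgebra.algebraMap_norm_eq_mul_star] at hc
  have hn : QuadraticAlgebra.norm c = r := (algebraMap F E).injective hc
  have hc0 : c ≠ 0 := by
    rintro rfl
    rw [QuadraticAlgebra.norm_zero] at hn
    exact r.ne_zero hn.symm
  exact ⟨Units.mk0 c hc0, Units.ext hn⟩

lemma card_normOne [Fintype F] (hD : a ^ 2 - 4 * b ≠ 0) :
    Nat.card (normOne a b) = Fintype.card F + 1 := by
  have : Finite E := Finite.of_equiv _ (QuadraticAlgebra.equivProd (-b) a).symm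
  have h1 := Subgroup.card_eq_card_quotient_mul_card_subgroup (normOne a b)
  have h0 : Nat.card (Eˣ ⧸ normOne a b) = Nat.card Fˣ :=
    Nat.card_congr (QuotientGroup.quotientKerEquivOfSurjective _
      (norm_units_surjective hD)).toEquiv
  rw [h0] at h1
  have h2 := Nat.card_eq_card_units_add_one E
  have h3 := Nat.card_eq_card_units_add_one F
  rw [card_E] at h2
  rw [Nat.card_eq_fintype_card] at h3
  set q := Fintype.card F
  have hq : 2 ≤ q := Fintype.one_lt_card
  obtain ⟨k, hk⟩ : ∃ k, q = k + 2 := ⟨q - 2, by omega⟩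
  have h4 : Nat.card Fˣ = k + 1 := by omega
  have h5 : Nat.card Eˣ = (k + 1) * (k + 3) := by
    have : (k + 2) ^ 2 = (k + 1) * (k + 3) + 1 := by ring
    rw [hk, this] at h2
    omega
  rw [h4, h5] at h1
  have := Nat.eq_of_mul_eq_mul_left (by omega) h1
  omega

/-- The isometry group of the norm form has order `2 (q + 1)`. -/
theorem card_OE [Fintype F] (hD : a ^ 2 - 4 * b ≠ 0) :
    Nat.card (OE a b) = 2 * (Fintype.card F + 1) := by
  have : Finite E := Finite.of_equiv _ (QuadraticAlgebra.equivProd (-b) a).symm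
  rw [two_mul, ← card_normOne (a := a) (b := b) hD, ← Nat.card_sum]
  symm
  let Φ : normOne a b ⊕ normOne a b → OE a b := fun s => match s with
    | .inl u => ⟨mulE a b u.1, mulE_mem u.1 u.2⟩
    | .inr u => ⟨mulE a b u.1 * conjE a b, (OE a b).mul_mem (mulE_mem u.1 u.2) conjE_mem⟩
  refine Nat.card_congr (Equiv.ofBijective Φ ⟨?_, ?_⟩)
  · rintro (u | u) (v | v) h
    · have := congrArg Subtype.val h
      exact congrArg Sum.inl (Subtype.ext (mulE_injective this))
    · exfalso
      have h1 : mulE a b u.1 = mulE a b v.1 * conjE a b := congrArg Subtype.val h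
      apply conjE_ne_mulE hD (v.1⁻¹ * u.1)
      rw [map_mul, map_inv, h1, inv_mul_cancel_left]
    · exfalso
      have h1 : mulE a b u.1 * conjE a b = mulE a b v.1 := congrArg Subtype.val h
      apply conjE_ne_mulE hD (u.1⁻¹ * v.1)
      rw [map_mul, map_inv, ← h1, inv_mul_cancel_left]
    · have h1 : mulE a b u.1 * conjE a b = mulE a b v.1 * conjE a b := congrArg Subtype.val h
      exact congrArg Sum.inr (Subtype.ext (mulE_injective (mul_right_cancel h1)))
  · rintro ⟨g, hg⟩
    obtain ⟨u, hu, h | h⟩ := OE_cases g hg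
    · exact ⟨.inl ⟨u, hu⟩, Subtype.ext h.symm⟩
    · exact ⟨.inr ⟨u, hu⟩, Subtype.ext h.symm⟩

/-- The isometry group of the norm form is dihedral. -/
theorem OE_dihedral [Fintype F] (hD : a ^ 2 - 4 * b ≠ 0) :
    Nonempty (OE a b ≃* DihedralGroup (Fintype.card F + 1)) := by
  have : Finite E := Finite.of_equiv _ (QuadraticAlgebra.equivProd (-b) a).symm
  have hfin : Finite (OE a b) := Nat.finite_of_card_ne_zero (by rw [card_OE hD]; omega)
  obtain ⟨g, hg⟩ := IsCyclic.exists_ofOrder_eq_natCard (α := normOne a b)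
  rw [card_normOne hD] at hg
  let μ : normOne a b →* OE a b :=
    { toFun := fun u => ⟨mulE a b u.1, mulE_mem u.1 u.2⟩
      map_one' := Subtype.ext (map_one _)
      map_mul' := fun u v => Subtype.ext (map_mul _ _ _) }
  have hμ : Function.Injective μ := by
    intro u v h
    exact Subtype.ext (mulE_injective (congrArg Subtype.val h))
  refine Cfsg.Agent.Lib.Helper73.nonempty_mulEquiv_dihedralGroup (Fintype.card F + 1) (μ g)
    ⟨conjE a b, conjE_mem⟩ ?_ ?_ ?_ ?_ (card_OE hD)
  · rw [orderOf_injective μ hμ, hg]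
  · rw [sq]
    exact Subtype.ext conjE_mul_self
  · exact Subtype.ext (conjE_mul_mulE g.1 g.2)
  · rintro ⟨k, hk⟩
    have h1 : μ (g ^ k) = ⟨conjE a b, conjE_mem⟩ := by rw [map_zpow]; exact hk
    exact conjE_ne_mulE hD _ (congrArg Subtype.val h1).symm

end

end Cfsg.Agent.Lib.Helper5
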