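import Mathlib
import Cfsg.Agent.Lib.Helper5.NormForm
import Cfsg.Agent.Lib.Helper5.GOOrder
import Cfsg.Agent.Lib.Helper44.StdForms
import Cfsg.Agent.Lib.Helper44.Transport

set_option autoImplicit false

namespace Cfsg.Agent.Lib.Helper5

open Matrix QuadraticMap Cfsg.Agent.Lib.Helper44

/-- Restriction of a group isomorphism to subgroups that correspond. -/
def subgroupEquivOfIff {G G' : Type*} [Group G] [Group G'] (Ψ : G ≃* G') (H : Subgroup G)
    (K : Subgroup G') (h : ∀ x, x ∈ H ↔ Ψ x ∈ K) : H ≃* K where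
  toFun x := ⟨Ψ x.1, (h x.1).1 x.2⟩
  invFun y := ⟨Ψ.symm y.1, (h _).2 (by rw [MulEquiv.apply_symm_apply]; exact y.2)⟩
  left_inv x := Subtype.ext (Ψ.symm_apply_apply x.1)
  right_inv y := Subtype.ext (Ψ.apply_symm_apply y.1)
  map_mul' x y := Subtype.ext (map_mul Ψ x.1 y.1)

/-- Conjugation by a linear equivalence. -/
def conjAut {R V W : Type*} [Semiring R] [AddCommMonoid V] [AddCommMonoid W] [Module R V]
    [Module R W] (L : V ≃ₗ[R] W) : (V ≃ₗ[R] V) ≃* (W ≃ₗ[R] W) where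
  toFun g := L.symm.trans (g.trans L)
  invFun h := L.trans (h.trans L.symm)
  left_inv g := by ext v; simp
  right_inv h := by ext v; simp
  map_mul' g h := by ext v; simp [LinearEquiv.mul_apply]

variable {F : Type*} [Field F]

/-- Coordinates on the quadratic algebra. -/
def LE (a b : F) : ((Fin 0 ⊕ Fin 0) ⊕ Fin 2 → F) ≃ₗ[F] QuadraticAlgebra F (-b) a where
  toFun v := ⟨v (.inr 0), v (.inr 1)⟩
  invFun z := fun i => match i with
    | .inr k => ![z.re, z.im] k
    | .inl _ => 0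
  map_add' v w := by ext <;> simp
  map_smul' c v := by ext <;> simp
  left_inv v := by
    funext i
    rcases i with (i | i) | k
    · exact i.elim0
    · exact i.elim0
    · fin_cases k <;> simp
  right_inv z := by ext <;> simp

lemma norm_LE (a b : F) (v : (Fin 0 ⊕ Fin 0) ⊕ Fin 2 → F) :
    QuadraticAlgebra.norm (LE a b v) = Cfsg.quadFormMinus 0 F a b v := by
  change QuadraticAlgebra.norm (⟨v (.inr 0), v (.inr 1)⟩ : QuadraticAlgebra F (-b) a) = _
  rw [normE_mk]
  simp [Cfsg.quadFormMinus]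

/-- `GO⁻_2` as the isometry group of a norm form. -/
noncomputable def isometryMinusZeroEquiv (a b : F) :
    Cfsg.isometryGroup F (Cfsg.quadFormMinus 0 F a b) ≃* OE a b :=
  subgroupEquivOfIff (glEquiv.trans (conjAut (LE a b))) _ _ (by
    intro A
    have hΨ : ∀ z, (glEquiv.trans (conjAut (LE a b))) A z
        = LE a b (A.1 *ᵥ (LE a b).symm z) := by
      intro z
      change LE a b (glEquiv A ((LE a b).symm z)) = _
      rw [glEquiv_apply]
    constructor
    · intro hA z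
      rw [hΨ, norm_LE]
      have := hA ((LE a b).symm z) 0
      change Cfsg.quadFormMinus 0 F a b (A.1 *ᵥ _) = Cfsg.quadFormMinus 0 F a b _ at this
      rw [this, ← norm_LE, LinearEquiv.apply_symm_apply]
    · intro hA u _
      change Cfsg.quadFormMinus 0 F a b (A.1 *ᵥ u) = Cfsg.quadFormMinus 0 F a b u
      have := hA (LE a b u)
      rw [hΨ, LinearEquiv.symm_apply_apply, norm_LE, norm_LE] at this
      exact this)

lemma fact_of_anisotropic {a b : F}
    (hab : ∀ z₁ z₂ : F, z₁ ^ 2 + a * z₁ * z₂ + b * z₂ ^ 2 = 0 → z₁ = 0 ∧ z₂ = 0) :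
    Fact (∀ r : F, r ^ 2 ≠ -b + a * r) := by
  constructor
  intro r hr
  have := hab r (-1) (by linear_combination hr)
  exact one_ne_zero (neg_eq_zero.1 this.2)

variable [Fintype F]

theorem card_GO_minus_zero {a b : F}
    (hab : ∀ z₁ z₂ : F, z₁ ^ 2 + a * z₁ * z₂ + b * z₂ ^ 2 = 0 → z₁ = 0 ∧ z₂ = 0) :
    Nat.card (Cfsg.isometryGroup F (Cfsg.quadFormMinus 0 F a b)) = 2 * (Fintype.card F + 1) := by
  have := fact_of_anisotropic hab
  rw [Nat.card_congr (isometryMinusZeroEquiv a b).toEquiv,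
    card_OE (disc_ne_zero_of_anisotropic F hab)]

theorem GO_minus_zero_dihedral {a b : F}
    (hab : ∀ z₁ z₂ : F, z₁ ^ 2 + a * z₁ * z₂ + b * z₂ ^ 2 = 0 → z₁ = 0 ∧ z₂ = 0) :
    Nonempty (Cfsg.isometryGroup F (Cfsg.quadFormMinus 0 F a b)
      ≃* DihedralGroup (Fintype.card F + 1)) := by
  have := fact_of_anisotropic hab
  obtain ⟨e⟩ := OE_dihedral (a := a) (b := b) (disc_ne_zero_of_anisotropic F hab)
  exact ⟨(isometryMinusZeroEquiv a b).trans e⟩

theorem card_GO_minus_succ {a b : F}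
    (hab : ∀ z₁ z₂ : F, z₁ ^ 2 + a * z₁ * z₂ + b * z₂ ^ 2 = 0 → z₁ = 0 ∧ z₂ = 0) (m : ℕ) :
    Nat.card (Cfsg.isometryGroup F (Cfsg.quadFormMinus (m + 1) F a b))
      = (Nat.card {x : (Fin (m + 1) ⊕ Fin (m + 1)) ⊕ Fin 2 → F //
          Cfsg.quadFormMinus (m + 1) F a b x = 0} - 1)
        * Fintype.card F ^ (2 * m + 2)
        * Nat.card (Cfsg.isometryGroup F (Cfsg.quadFormMinus m F a b)) := by
  have h := card_isometryGroup_split (eMinus m) (minusQF (m + 1) F a b)
    (minusQF_nondeg (m + 1) F hab) (Cfsg.quadFormMinus m F a b) (by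
      intro x
      rw [minusQF_coe]
      exact quadFormMinus_split m a b x)
  rw [minusQF_coe] at h
  rw [h]
  simp [two_mul]

/-- `|GO⁻_{2m+2}(q)| = 2 q^((m+1)m) (q^(m+1) + 1) ∏_{i=1}^{m} (q^(2i) - 1)`. -/
theorem card_GO_minus {a b : F}
    (hab : ∀ z₁ z₂ : F, z₁ ^ 2 + a * z₁ * z₂ + b * z₂ ^ 2 = 0 → z₁ = 0 ∧ z₂ = 0) (m : ℕ) :
    Nat.card (Cfsg.isometryGroup F (Cfsg.quadFormMinus m F a b))
      = 2 * Fintype.card F ^ ((m + 1) * m) * (Fintype.card F ^ (m + 1) + 1)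
        * ∏ i ∈ Finset.range m, (Fintype.card F ^ (2 * (i + 1)) - 1) := by
  induction m with
  | zero => rw [card_GO_minus_zero hab]; simp
  | succ m ih =>
    rw [card_GO_minus_succ hab, ih, Finset.prod_range_succ]
    have hz := card_zeros_minus (F := F) (m + 1) a b hab
    set q := Fintype.card F with hq
    have hq1 : 1 ≤ q := Fintype.card_pos
    generalize Nat.card {x : (Fin (m + 1) ⊕ Fin (m + 1)) ⊕ Fin 2 → F //
      Cfsg.quadFormMinus (m + 1) F a b x = 0} = z at hz ⊢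
    obtain ⟨t, ht⟩ : ∃ t, q ^ (m + 1) = t + 1 := ⟨q ^ (m + 1) - 1, by
      have : 1 ≤ q ^ (m + 1) := Nat.one_le_pow _ _ hq1
      omega⟩
    have hz2 : z - 1 = (q ^ (m + 2) + 1) * (q ^ (m + 1) - 1) := by
      have h4 : q ^ (2 * (m + 1) + 1) = q ^ (m + 2) * (t + 1) := by rw [← ht]; ring
      rw [h4, ht] at hz
      rw [ht, Nat.add_sub_cancel]
      have : q ^ (m + 2) * (t + 1) + (t + 1) = (q ^ (m + 2) + 1) * t + 1 + q ^ (m + 1 + 1) := by ring
      omega
    have h5 : q ^ (2 * (m + 1)) - 1 = (q ^ (m + 1) - 1) * (q ^ (m + 1) + 1) := by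
      have : q ^ (2 * (m + 1)) = (t + 1) * (t + 1) := by rw [← ht]; ring
      rw [this, ht, Nat.add_sub_cancel]
      have : (t + 1) * (t + 1) = t * (t + 1 + 1) + 1 := by ring
      omega
    rw [hz2, h5]
    have e1 : (m + 1 + 1) * (m + 1) = (2 * m + 2) + (m + 1) * m := by ring
    rw [e1, pow_add q (2 * m + 2)]
    ring

end Cfsg.Agent.Lib.Helper5
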