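import Mathlib
import Cfsg.Agent.Lib.Helper5.GOOrder
import Cfsg.Agent.Lib.Helper44.StdForms

set_option autoImplicit false

namespace Cfsg.Agent.Lib.Helper5

open Matrix QuadraticMap Cfsg.Agent.Lib.Helper44

variable {F : Type*} [Field F] [Fintype F]

theorem card_GO_plus_succ (m : ℕ) :
    Nat.card (Cfsg.isometryGroup F (Cfsg.quadFormPlus (m + 1) F))
      = (Nat.card {x : Fin (m + 1) ⊕ Fin (m + 1) → F // Cfsg.quadFormPlus (m + 1) F x = 0} - 1)
        * Fintype.card F ^ (2 * m) * Nat.card (Cfsg.isometryGroup F (Cfsg.quadFormPlus m F)) := by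
  have h := card_isometryGroup_split (ePlus m) (plusQF (m + 1) F) (plusQF_nondeg (m + 1) F)
    (Cfsg.quadFormPlus m F) (by
      intro x
      rw [plusQF_coe]
      exact quadFormPlus_split m x)
  rw [plusQF_coe] at h
  rw [h]
  simp [two_mul]

/-- `|GO⁺_{2m}(q)| (q^m + 1) = 2 q^(m(m-1)) ∏_{i=1}^{m} (q^(2i) - 1)`. -/
theorem card_GO_plus_mul (m : ℕ) :
    Nat.card (Cfsg.isometryGroup F (Cfsg.quadFormPlus m F)) * (Fintype.card F ^ m + 1)
      = 2 * Fintype.card F ^ (m * (m - 1))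
        * ∏ i ∈ Finset.range m, (Fintype.card F ^ (2 * (i + 1)) - 1) := by
  induction m with
  | zero =>
    have : Subsingleton (Matrix.GeneralLinearGroup (Fin 0 ⊕ Fin 0) F) := by
      constructor
      intro a b
      ext i
      rcases i with i | i <;> exact i.elim0
    rw [Nat.card_of_subsingleton (1 : Cfsg.isometryGroup F (Cfsg.quadFormPlus 0 F))]
    simp
  | succ m ih =>
    rw [card_GO_plus_succ, Finset.prod_range_succ]
    have hz := card_zeros_plus (F := F) (m + 1)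
    set q := Fintype.card F with hq
    have hq1 : 1 ≤ q := Fintype.card_pos
    generalize Nat.card {x : Fin (m + 1) ⊕ Fin (m + 1) → F // Cfsg.quadFormPlus (m + 1) F x = 0} = z
      at hz ⊢
    have hz2 : z - 1 = (q ^ (m + 1) - 1) * (q ^ m + 1) := by
      have h1 : 1 ≤ q ^ (m + 1) := Nat.one_le_pow _ _ hq1
      have h2 : q * (z + q ^ m) = q * (q ^ (2 * m + 1) + q ^ (m + 1)) := by
        have : q * (z + q ^ m) = q * z + q ^ (m + 1) := by ring
        rw [this, hz]; ring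
      have h3 := Nat.eq_of_mul_eq_mul_left hq1 h2
      obtain ⟨t, ht⟩ : ∃ t, q ^ (m + 1) = t + 1 := ⟨q ^ (m + 1) - 1, by omega⟩
      have h4 : q ^ (2 * m + 1) = (t + 1) * q ^ m := by rw [← ht]; ring
      rw [ht, Nat.add_sub_cancel]
      rw [h4, ht] at h3
      have : t * (q ^ m + 1) + 1 + q ^ m = (t + 1) * q ^ m + (t + 1) := by ring
      omega
    have h5 : (q ^ (m + 1) - 1) * (q ^ (m + 1) + 1) = q ^ (2 * (m + 1)) - 1 := by
      obtain ⟨t, ht⟩ : ∃ t, q ^ (m + 1) = t + 1 := ⟨q ^ (m + 1) - 1, by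
        have : 1 ≤ q ^ (m + 1) := Nat.one_le_pow _ _ hq1
        omega⟩
      have : q ^ (2 * (m + 1)) = (t + 1) * (t + 1) := by rw [← ht]; ring
      rw [this, ht, Nat.add_sub_cancel]
      have : (t + 1) * (t + 1) = t * (t + 1 + 1) + 1 := by ring
      omega
    rw [hz2, ← h5]
    have e1 : (m + 1) * (m + 1 - 1) = 2 * m + m * (m - 1) := by
      rcases m with _ | k
      · simp
      · simp only [Nat.add_sub_cancel]; ring
    rw [e1, pow_add q (2 * m)]
    calc (q ^ (m + 1) - 1) * (q ^ m + 1) * q ^ (2 * m)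
          * Nat.card (Cfsg.isometryGroup F (Cfsg.quadFormPlus m F)) * (q ^ (m + 1) + 1)
        = (q ^ (m + 1) - 1) * q ^ (2 * m) * (q ^ (m + 1) + 1)
          * (Nat.card (Cfsg.isometryGroup F (Cfsg.quadFormPlus m F)) * (q ^ m + 1)) := by ring
      _ = _ := by rw [ih]; ring

theorem card_GO_odd_succ (h2 : (2 : F) ≠ 0) (m : ℕ) :
    Nat.card (Cfsg.isometryGroup F (Cfsg.quadFormOdd (m + 1) F))
      = (Fintype.card F ^ (2 * (m + 1)) - 1)
        * Fintype.card F ^ (2 * m + 1) * Nat.card (Cfsg.isometryGroup F (Cfsg.quadFormOdd m F)) := by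
  have h := card_isometryGroup_split (eOdd m) (oddQF (m + 1) F) (oddQF_nondeg (m + 1) F h2)
    (Cfsg.quadFormOdd m F) (by
      intro x
      rw [oddQF_coe]
      exact quadFormOdd_split m x)
  rw [oddQF_coe, card_zeros_odd] at h
  rw [h]
  have : Fintype.card (Unit ⊕ (Fin m ⊕ Fin m)) = 2 * m + 1 := by simp; ring
  rw [this]

theorem card_GO_odd_zero (h2 : (2 : F) ≠ 0) :
    Nat.card (Cfsg.isometryGroup F (Cfsg.quadFormOdd 0 F)) = 2 := by
  rw [Nat.card_eq_two_iff]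
  have hQ : ∀ v : Unit ⊕ (Fin 0 ⊕ Fin 0) → F, Cfsg.quadFormOdd 0 F v = v (.inl ()) ^ 2 := by
    intro v; simp [Cfsg.quadFormOdd]
  have hneg : (-1 : Matrix.GeneralLinearGroup (Unit ⊕ (Fin 0 ⊕ Fin 0)) F)
      ∈ Cfsg.isometryGroup F (Cfsg.quadFormOdd 0 F) := by
    intro u _
    change Cfsg.quadFormOdd 0 F ((-1 : Matrix _ _ F) *ᵥ u) = Cfsg.quadFormOdd 0 F u
    rw [hQ, hQ, Matrix.neg_mulVec, Matrix.one_mulVec]
    simp
  have hext : ∀ A B : Cfsg.isometryGroup F (Cfsg.quadFormOdd 0 F),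
      A.1.1 (Sum.inl ()) (Sum.inl ()) = B.1.1 (Sum.inl ()) (Sum.inl ()) → A = B := by
    intro A B h
    apply Subtype.ext
    apply Units.ext
    ext i j
    rcases i with _ | i | i
    · rcases j with _ | j | j
      · exact h
      · exact j.elim0
      · exact j.elim0
    · exact i.elim0
    · exact i.elim0
  refine ⟨1, ⟨-1, hneg⟩, ?_, ?_⟩
  · intro h
    have h1 := congrArg (fun A : Cfsg.isometryGroup F (Cfsg.quadFormOdd 0 F) =>
      A.1.1 (Sum.inl ()) (Sum.inl ())) h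
    change (1 : Matrix (Unit ⊕ (Fin 0 ⊕ Fin 0)) (Unit ⊕ (Fin 0 ⊕ Fin 0)) F) (Sum.inl ()) (Sum.inl ())
      = (-1 : Matrix (Unit ⊕ (Fin 0 ⊕ Fin 0)) (Unit ⊕ (Fin 0 ⊕ Fin 0)) F) (Sum.inl ()) (Sum.inl ()) at h1
    simp only [Matrix.one_apply_eq, Matrix.neg_apply] at h1
    apply h2
    linear_combination h1
  · rw [Set.eq_univ_iff_forall]
    intro A
    have h1 := A.2 (Pi.single (Sum.inl ()) 1) 0
    change Cfsg.quadFormOdd 0 F (A.1.1 *ᵥ _) = Cfsg.quadFormOdd 0 F _ at h1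
    rw [hQ, hQ, Matrix.mulVec_single_one] at h1
    simp only [Matrix.col_apply, Pi.single_eq_same, one_pow] at h1
    have h3 : (A.1.1 (Sum.inl ()) (Sum.inl ()) - 1) * (A.1.1 (Sum.inl ()) (Sum.inl ()) + 1) = 0 := by
      linear_combination h1
    rcases mul_eq_zero.1 h3 with h | h
    · left
      apply hext
      change _ = (1 : Matrix (Unit ⊕ (Fin 0 ⊕ Fin 0)) (Unit ⊕ (Fin 0 ⊕ Fin 0)) F) (Sum.inl ()) (Sum.inl ())
      rw [Matrix.one_apply_eq]
      linear_combination h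
    · right
      apply hext
      change _ = (-1 : Matrix (Unit ⊕ (Fin 0 ⊕ Fin 0)) (Unit ⊕ (Fin 0 ⊕ Fin 0)) F) (Sum.inl ()) (Sum.inl ())
      rw [Matrix.neg_apply, Matrix.one_apply_eq]
      linear_combination h

/-- `|GO_{2m+1}(q)| = 2 q^(m^2) ∏_{i=1}^{m} (q^(2i) - 1)`, `q` odd. -/
theorem card_GO_odd (h2 : (2 : F) ≠ 0) (m : ℕ) :
    Nat.card (Cfsg.isometryGroup F (Cfsg.quadFormOdd m F))
      = 2 * Fintype.card F ^ (m ^ 2)
        * ∏ i ∈ Finset.range m, (Fintype.card F ^ (2 * (i + 1)) - 1) := by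
  induction m with
  | zero => rw [card_GO_odd_zero h2]; simp
  | succ m ih =>
    rw [card_GO_odd_succ h2, ih, Finset.prod_range_succ]
    have : (m + 1) ^ 2 = (2 * m + 1) + m ^ 2 := by ring
    rw [this, pow_add (Fintype.card F) (2 * m + 1)]
    ring

end Cfsg.Agent.Lib.Helper5
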