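import Mathlib
import Cfsg.Agent.Lib.Helper5.HermFrames

set_option autoImplicit false

namespace Cfsg.Agent.Lib.Helper5

open Matrix Module Cfsg.Agent.Lib.Helper13

variable {F : Type*} [Field F] [Fintype F] {q : ℕ}

lemma herm_ti_span_iff (hF : Fintype.card F = q ^ 2) (n : ℕ) {κ : Type*} (f : κ → Fin n → F) :
    (∀ u ∈ Submodule.span F (Set.range f), ∀ v ∈ Submodule.span F (Set.range f),
      Cfsg.hermForm n F q u v = 0) ↔ ∀ i j, Cfsg.hermForm n F q (f i) (f j) = 0 := by
  have hq := two_le_of_card_sq hF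
  constructor
  · intro h i j
    exact h _ (Submodule.subset_span ⟨i, rfl⟩) _ (Submodule.subset_span ⟨j, rfl⟩)
  · intro h u hu v hv
    induction hu using Submodule.span_induction with
    | mem x hx =>
      obtain ⟨i, rfl⟩ := hx
      induction hv using Submodule.span_induction with
      | mem y hy => obtain ⟨j, rfl⟩ := hy; exact h i j
      | zero => simp [Cfsg.hermForm, show q ≠ 0 by omega]
      | add x y _ _ hx hy => rw [hermForm_add_right hF, hx, hy, add_zero]
      | smul a x _ hx => rw [hermForm_smul_right, hx, mul_zero]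
    | zero => simp [Cfsg.hermForm]
    | add x y _ _ hx hy => rw [hermForm_add_left, hx, hy, add_zero]
    | smul a x _ hx => rw [hermForm_smul_left, hx, mul_zero]

/-- number of totally isotropic `k`-subspaces of the standard Hermitian space -/
theorem card_herm_ti_subspaces_mul (hF : Fintype.card F = q ^ 2) (n k : ℕ) :
    Nat.card {W : Submodule F (Fin n → F) // finrank F W = k ∧
        ∀ u ∈ W, ∀ v ∈ W, Cfsg.hermForm n F q u v = 0} *
      ∏ i : Fin k, ((q ^ 2) ^ k - (q ^ 2) ^ (i : ℕ)) = Nat.card (hFrames F q n k) := by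
  rw [← hF, ← card_frames_eq_card_subspaces_mul k
    (fun W => ∀ u ∈ W, ∀ v ∈ W, Cfsg.hermForm n F q u v = 0)]
  refine Nat.card_congr (Equiv.subtypeEquivRight fun f => ?_)
  rw [herm_ti_span_iff hF]
  rfl

theorem card_herm_lines_four (hF : Fintype.card F = q ^ 2) :
    Nat.card {W : Submodule F (Fin 4 → F) // finrank F W = 2 ∧
        ∀ u ∈ W, ∀ v ∈ W, Cfsg.hermForm 4 F q u v = 0} = (q + 1) * (q ^ 3 + 1) := by
  have hq := two_le_of_card_sq hF
  have h := card_herm_ti_subspaces_mul hF 4 2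
  rw [card_hFrames_succ hF 2 1, card_hFrames_succ hF 0 0, card_hFrames_zero, hcnt_zero_sub_one hF,
    hcnt_zero_sub_one hF] at h
  simp only [Fin.prod_univ_two, Fin.val_zero, Fin.val_one, pow_zero, pow_one, mul_one, guFac] at h
  norm_num [Nat.even_add_one] at h
  have e1 : (q ^ 2) ^ 2 - 1 = q ^ 4 - 1 := by rw [← pow_mul]
  have e2 : (q ^ 2) ^ 2 - q ^ 2 = q ^ 2 * (q ^ 2 - 1) := by
    rw [Nat.mul_sub, mul_one, ← pow_two]
  rw [e1, e2] at h
  have h4 : 0 < q ^ 4 - 1 := by
    have : 1 < q ^ 4 := Nat.one_lt_pow (by norm_num) (by omega)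
    omega
  have h2 : 0 < q ^ 2 - 1 := by
    have : 1 < q ^ 2 := Nat.one_lt_pow (by norm_num) (by omega)
    omega
  have hpos : 0 < (q ^ 4 - 1) * (q ^ 2 * (q ^ 2 - 1)) := by positivity
  apply Nat.eq_of_mul_eq_mul_right hpos
  rw [h]; ring

theorem card_herm_lines_five (hF : Fintype.card F = q ^ 2) :
    Nat.card {W : Submodule F (Fin 5 → F) // finrank F W = 2 ∧
        ∀ u ∈ W, ∀ v ∈ W, Cfsg.hermForm 5 F q u v = 0} = (q ^ 3 + 1) * (q ^ 5 + 1) := by
  have hq := two_le_of_card_sq hF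
  have h := card_herm_ti_subspaces_mul hF 5 2
  rw [card_hFrames_succ hF 3 1, card_hFrames_succ hF 1 0, card_hFrames_zero, hcnt_zero_sub_one hF,
    hcnt_zero_sub_one hF] at h
  simp only [Fin.prod_univ_two, Fin.val_zero, Fin.val_one, pow_zero, pow_one, mul_one, guFac] at h
  norm_num [Nat.even_add_one] at h
  have e1 : (q ^ 2) ^ 2 - 1 = q ^ 4 - 1 := by rw [← pow_mul]
  have e2 : (q ^ 2) ^ 2 - q ^ 2 = q ^ 2 * (q ^ 2 - 1) := by
    rw [Nat.mul_sub, mul_one, ← pow_two]
  rw [e1, e2] at h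
  have h4 : 0 < q ^ 4 - 1 := by
    have : 1 < q ^ 4 := Nat.one_lt_pow (by norm_num) (by omega)
    omega
  have h2 : 0 < q ^ 2 - 1 := by
    have : 1 < q ^ 2 := Nat.one_lt_pow (by norm_num) (by omega)
    omega
  have hpos : 0 < (q ^ 4 - 1) * (q ^ 2 * (q ^ 2 - 1)) := by positivity
  apply Nat.eq_of_mul_eq_mul_right hpos
  rw [h]; ring

end Cfsg.Agent.Lib.Helper5
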