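import Mathlib
import Cfsg.Agent.Lib.Helper5.HermLines
import Cfsg.Agent.Lib.Helper5.SUTorus

set_option autoImplicit false

namespace Cfsg.Agent.Lib.Helper5

open Matrix Module Cfsg.Agent.Lib.Helper13 Cfsg.Agent.Lib.Helper94 Cfsg.Agent.Lib.Helper94.U
  Cfsg.Agent.Lib.Helper45.SUGen

variable {F : Type*} [Field F] [Fintype F] {q n : ℕ}

local notation "H" => Cfsg.hermForm n F q
local notation "V" => (Fin n → F)

/-- The hyperbolic dilation `v ↦ a v`, `f ↦ a^{-q} f`. -/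
def hypMat (n q : ℕ) (v f : Fin n → F) (a : F) : Matrix (Fin n) (Fin n) F :=
  dil n q ((a - 1) • v) f * dil n q (((a ^ q)⁻¹ - 1) • f) v

omit [Fintype F] in
lemma hypMat_mulVec {v f : V} (a : F) (hf : H f f = 0) (x : V) :
    hypMat n q v f a *ᵥ x = x + ((a - 1) * H x f) • v + (((a ^ q)⁻¹ - 1) * H x v) • f := by
  rw [hypMat, ← mulVec_mulVec, dil_mulVec, dil_mulVec]
  simp only [hermForm_add_left, hermForm_smul_left, hf]
  module

lemma hypMat_det (hF : Fintype.card F = q ^ 2) {v f : V} {a : F}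
    (hvf : H v f = 1) : (hypMat n q v f a).det = a * (a ^ q)⁻¹ := by
  have hfv : H f v = 1 := by rw [← hermForm_swap hF, hvf, one_pow]
  rw [hypMat, det_mul, dil_det, dil_det, hermForm_smul_left, hermForm_smul_left, hvf, hfv]
  ring

lemma hypMat_preserves (hF : Fintype.card F = q ^ 2) {v f : V} {a : F} (ha : a ≠ 0)
    (hv : H v v = 0) (hf : H f f = 0) (hvf : H v f = 1) (x y : V) :
    H (hypMat n q v f a *ᵥ x) (hypMat n q v f a *ᵥ y) = H x y := by
  have hfv : H f v = 1 := by rw [← hermForm_swap hF, hvf, one_pow]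
  have haq : a ^ q ≠ 0 := pow_ne_zero _ ha
  rw [hypMat_mulVec a hf, hypMat_mulVec a hf]
  simp only [hermForm_add_left, hermForm_smul_left, hermForm_add_right hF, hermForm_smul_right,
    hv, hf, hvf, hfv, mul_pow, sub_pow_q hF, inv_pow, pow_q_pow_q hF, one_pow]
  rw [← hermForm_swap hF y v, ← hermForm_swap hF y f]
  field_simp
  ring

/-- Hilbert 90 for `F_{q^2}/F_q`. -/
lemma exists_div_pow_q (hF : Fintype.card F = q ^ 2) (μ : F) (hμ : μ ^ (q + 1) = 1) :
    ∃ a : F, a ≠ 0 ∧ a * (a ^ q)⁻¹ = μ := by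
  classical
  have hq := two_le_of_card_sq hF
  have hμ0 : μ ≠ 0 := by
    rintro rfl
    rw [zero_pow (by omega)] at hμ
    exact zero_ne_one hμ
  obtain ⟨g, hg⟩ := IsCyclic.exists_generator (α := Fˣ)
  obtain ⟨j, hj⟩ : ∃ j : ℕ, g ^ j = Units.mk0 μ hμ0 := by
    have := hg (Units.mk0 μ hμ0)
    rw [← mem_powers_iff_mem_zpowers] at this
    exact this
  have hord : orderOf g = q ^ 2 - 1 := by
    rw [orderOf_eq_card_of_forall_mem_zpowers hg, Nat.card_eq_fintype_card, Fintype.card_units, hF]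
  have h1 : g ^ (j * (q + 1)) = 1 := by
    rw [pow_mul, hj]
    apply Units.ext
    simpa using hμ
  have h2 : (q ^ 2 - 1) ∣ j * (q + 1) := by
    rw [← hord]; exact orderOf_dvd_of_pow_eq_one h1
  have h3 : q ^ 2 - 1 = (q - 1) * (q + 1) := by
    obtain ⟨k, rfl⟩ : ∃ k, q = k + 1 := ⟨q - 1, by omega⟩
    have : (k + 1) ^ 2 = k * (k + 1 + 1) + 1 := by ring
    rw [this]; simp
  rw [h3] at h2
  obtain ⟨t, ht⟩ := Nat.dvd_of_mul_dvd_mul_right (by omega) h2
  -- μ = (g^t)^(q-1)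
  refine ⟨((g ^ t)⁻¹ : Fˣ), Units.ne_zero _, ?_⟩
  have h4 : (μ : F) = ((g ^ t : Fˣ) : F) ^ (q - 1) := by
    have := congrArg Units.val hj
    rw [ht, mul_comm, pow_mul] at this
    simpa using this.symm
  have h5 : ((g ^ t : Fˣ) : F) ≠ 0 := Units.ne_zero _
  rw [h4, Units.val_inv_eq_inv_val, inv_pow, inv_inv]
  have h6 : ((g ^ t : Fˣ) : F) ^ q = ((g ^ t : Fˣ) : F) ^ (q - 1) * ((g ^ t : Fˣ) : F) := by
    rw [← pow_succ]; congr 1; omega
  rw [h6]
  field_simp

lemma exists_gu_stab_det (hF : Fintype.card F = q ^ 2) (hn : 1 ≤ n) (W : Submodule F V)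
    (hW : ∀ u ∈ W, ∀ v ∈ W, H u v = 0) (μ : Fˣ) (hμ : μ ^ (q + 1) = 1) :
    ∃ A : Cfsg.GU n F q, A ∈ Cfsg.stabilizing (guToMat n F q) (W : Set V) ∧ detGU n F q A = μ := by
  by_cases hbot : W = ⊥
  · have h1 : μ ∈ ((detGU n F q).range : Set Fˣ) := by
      rw [range_detGU hF hn]; exact hμ
    obtain ⟨A, hA⟩ := h1
    refine ⟨A, ?_, hA⟩
    rw [mem_stabilizing_iff_map, hbot, Submodule.map_bot]
  · obtain ⟨v, hvW, hv0⟩ := Submodule.exists_mem_ne_zero_of_ne_bot hbot
    have hv : H v v = 0 := hW v hvW v hvW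
    obtain ⟨a₀, ha₀⟩ := exists_hermForm_ne_zero hF hv0
    obtain ⟨l, hl⟩ := exists_isotropic_add_smul hF hv ha₀
    set f₀ := a₀ + l • v with hf₀
    have hfv₀ : H f₀ v ≠ 0 := by
      rw [hf₀, hermForm_add_left, hermForm_smul_left, hv, mul_zero, add_zero]; exact ha₀
    obtain ⟨f, hf, hfv⟩ : ∃ f, H f f = 0 ∧ H f v = 1 :=
      ⟨(H f₀ v)⁻¹ • f₀, by rw [hermForm_smul_left, hermForm_smul_right, hl]; simp,
        by rw [hermForm_smul_left, inv_mul_cancel₀ hfv₀]⟩
    have hvf : H v f = 1 := by rw [← hermForm_swap hF, hfv, one_pow]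
    have hμ' : (μ : F) ^ (q + 1) = 1 := by
      have := congrArg Units.val hμ
      simpa using this
    obtain ⟨a, ha, haμ⟩ := exists_div_pow_q hF (μ : F) hμ'
    have hdet : (hypMat n q v f a).det = μ := by rw [hypMat_det hF hvf, haμ]
    let A : Cfsg.GU n F q := ⟨Matrix.GeneralLinearGroup.mkOfDetNeZero (hypMat n q v f a)
      (by rw [hdet]; exact μ.ne_zero), hypMat_preserves hF ha hv hf hvf⟩
    refine ⟨A, ?_, ?_⟩
    · refine mem_iff_of_forall_mem (actL (guToMat n F q) A) W ?_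
      intro w hw
      change hypMat n q v f a *ᵥ w ∈ W
      rw [hypMat_mulVec a hf, hW w hw v hvW, mul_zero, zero_smul, add_zero]
      exact W.add_mem hw (W.smul_mem _ hvW)
    · apply Units.ext
      simpa [detGU, A] using hdet

theorem card_su_stab_mul (hF : Fintype.card F = q ^ 2) (hn : 1 ≤ n) (W : Submodule F V)
    (hW : ∀ u ∈ W, ∀ v ∈ W, H u v = 0) :
    (q + 1) * Nat.card ((Cfsg.stabilizing (Cfsg.slToMat n F) (W : Set V)).subgroupOf (Cfsg.SU n F q)) =
      Nat.card (Cfsg.stabilizing (guToMat n F q) (W : Set V)) := by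
  set S := Cfsg.stabilizing (guToMat n F q) (W : Set V) with hS
  let δ : S →* Fˣ := (detGU n F q).comp S.subtype
  have h1 := Subgroup.card_eq_card_quotient_mul_card_subgroup δ.ker
  have h2 : Nat.card (S ⧸ δ.ker) = q + 1 := by
    rw [Nat.card_congr (QuotientGroup.quotientKerEquivRange _).toEquiv, ← card_norm_one_units hF]
    have : (δ.range : Set Fˣ) = {x | x ^ (q + 1) = 1} := by
      ext x
      constructor
      · rintro ⟨A, rfl⟩
        have : detGU n F q A.1 ∈ ((detGU n F q).range : Set Fˣ) := ⟨A.1, rfl⟩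
        rw [range_detGU hF hn] at this
        exact this
      · intro hx
        obtain ⟨A, hA, hAx⟩ := exists_gu_stab_det hF hn W hW x hx
        exact ⟨⟨A, hA⟩, hAx⟩
    exact Nat.card_congr (Equiv.setCongr this)
  have h3 : Nat.card δ.ker =
      Nat.card ((Cfsg.stabilizing (Cfsg.slToMat n F) (W : Set V)).subgroupOf (Cfsg.SU n F q)) := by
    symm
    refine Nat.card_congr (Equiv.ofBijective
      (fun B => ⟨⟨suToGU n F q B.1, B.2⟩, ?_⟩) ⟨?_, ?_⟩)
    · rw [MonoidHom.mem_ker]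
      have : suToGU n F q B.1 ∈ (detGU n F q).ker := by
        rw [← range_suToGU]; exact ⟨B.1, rfl⟩
      exact this
    · intro B B' h
      apply Subtype.ext
      apply suToGU_injective
      exact congrArg (fun x => x.1.1) h
    · rintro ⟨⟨A, hA⟩, hA'⟩
      have : A ∈ (suToGU n F q).range := by
        rw [range_suToGU]; exact hA'
      obtain ⟨B, rfl⟩ := this
      exact ⟨⟨B, hA⟩, rfl⟩
  rw [h1, h2, h3]

lemma card_hFrames_arith (hF : Fintype.card F = q ^ 2) (k : ℕ) : ∀ n, 2 * k ≤ n →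
    q ^ (k * (2 * n - 3 * k)) * (q ^ ((n - 2 * k) * ((n - 2 * k) - 1) / 2) *
      ∏ i ∈ Finset.range (n - 2 * k), guFac q i) * Nat.card (hFrames F q n k) =
    q ^ (n * (n - 1) / 2) * ∏ i ∈ Finset.range n, guFac q i := by
  induction k with
  | zero => intro n _; rw [card_hFrames_zero]; simp
  | succ k ih =>
    intro n hn
    obtain ⟨m, rfl⟩ : ∃ m, n = m + 2 := ⟨n - 2, by omega⟩
    have hm : 2 * k ≤ m := by omega
    rw [card_hFrames_succ hF, hcnt_zero_sub_one hF, Finset.prod_range_succ, Finset.prod_range_succ]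
    have e1 : m + 2 - 2 * (k + 1) = m - 2 * k := by omega
    rw [e1]
    obtain ⟨a, ha⟩ : ∃ a, 2 * m = 3 * k + a := ⟨2 * m - 3 * k, by omega⟩
    have e2 : 2 * (m + 2) - 3 * (k + 1) = a + 1 := by omega
    have e3 : 2 * m - 3 * k = a := by omega
    have e4 : (m + 2) * (m + 2 - 1) / 2 = m * (m - 1) / 2 + (2 * m + 1) := by
      rcases m with _ | j
      · simp
      · simp only [Nat.add_sub_cancel]
        have : (j + 1 + 2) * (j + 1 + 1) = (j + 1) * j + 2 * (2 * (j + 1) + 1) := by ring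
        have h2 : j + 1 + 2 - 1 = j + 1 + 1 := by omega
        rw [h2, this, Nat.add_mul_div_left _ _ (by norm_num)]
    rw [e2, e4, ← pow_mul]
    have e5 : q ^ ((k + 1) * (a + 1)) * q ^ (2 * k) = q ^ (k * a) * q ^ (2 * m + 1) := by
      rw [← pow_add, ← pow_add, ha]; congr 1; ring
    have e6 : q ^ (m * (m - 1) / 2 + (2 * m + 1)) = q ^ (m * (m - 1) / 2) * q ^ (2 * m + 1) :=
      pow_add _ _ _
    have ih' := ih m hm
    rw [e3] at ih'
    calc _ = (q ^ ((k + 1) * (a + 1)) * q ^ (2 * k)) * ((q ^ ((m - 2 * k) * ((m - 2 * k) - 1) / 2) *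
          ∏ i ∈ Finset.range (m - 2 * k), guFac q i) * Nat.card (hFrames F q m k)) *
          (guFac q (m + 1) * guFac q m) := by ring
      _ = (q ^ (k * a) * (q ^ ((m - 2 * k) * ((m - 2 * k) - 1) / 2) *
          ∏ i ∈ Finset.range (m - 2 * k), guFac q i) * Nat.card (hFrames F q m k)) * q ^ (2 * m + 1) *
          (guFac q (m + 1) * guFac q m) := by rw [e5]; ring
      _ = _ := by rw [ih', e6]; ring

theorem card_su_parabolic (hF : Fintype.card F = q ^ 2) (k : ℕ) (hn : 1 ≤ n) (hk : 2 * k ≤ n)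
    (W : Submodule F V) (hWk : finrank F W = k) (hW : ∀ u ∈ W, ∀ v ∈ W, H u v = 0) :
    (q + 1) * Nat.card ((Cfsg.stabilizing (Cfsg.slToMat n F) (W : Set V)).subgroupOf (Cfsg.SU n F q)) =
      q ^ (k * (2 * n - 3 * k)) * (∏ i : Fin k, ((q ^ 2) ^ k - (q ^ 2) ^ (i : ℕ))) *
      (q ^ ((n - 2 * k) * ((n - 2 * k) - 1) / 2) * ∏ i ∈ Finset.range (n - 2 * k),
        (if Even i then q ^ (i + 1) + 1 else q ^ (i + 1) - 1)) := by
  have hq := two_le_of_card_sq hF
  rw [card_su_stab_mul hF hn W hW]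
  have : Finite (Cfsg.GU n F q) := Subtype.finite
  have h := card_stabilizing_mul (guToMat n F q) k (hFrames F q n k)
    (fun A f hf => (gu_smul_mem_hFrames_iff n k A f).2 hf)
    (fun f hf f' hf' => exists_gu_of_frames hF n f f' hf.1 hf'.1 (by
      intro i j
      rw [hf.2, hf'.2])) W hWk (by
      intro f hf
      refine ⟨hf.1, fun i j => ?_⟩
      apply hW <;> rw [← hf.2] <;> exact Submodule.subset_span ⟨_, rfl⟩)
  have h2 := card_hFrames_arith hF k n hk
  have h3 : Nat.card (Cfsg.GU n F q) = q ^ (n * (n - 1) / 2) * ∏ i ∈ Finset.range n, guFac q i :=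
    card_GU hF n
  rw [h3, ← h2, hF] at h
  have hpos : 0 < Nat.card (hFrames F q n k) := by
    rcases Nat.eq_zero_or_pos (Nat.card (hFrames F q n k)) with h0 | h0
    · exfalso
      rw [h0, mul_zero] at h2
      have : 0 < q ^ (n * (n - 1) / 2) * ∏ i ∈ Finset.range n, guFac q i := by
        rw [← h3]; exact Nat.card_pos
      omega
    · exact h0
  apply Nat.eq_of_mul_eq_mul_right hpos
  rw [h]
  change _ = q ^ (k * (2 * n - 3 * k)) * (∏ i : Fin k, ((q ^ 2) ^ k - (q ^ 2) ^ (i : ℕ))) *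
      (q ^ ((n - 2 * k) * ((n - 2 * k) - 1) / 2) * ∏ i ∈ Finset.range (n - 2 * k), guFac q i) * _
  ring

end Cfsg.Agent.Lib.Helper5
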