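import Mathlib
import Cfsg.Agent.Lib.Helper5.SpPerfect
import Cfsg.Agent.Lib.Helper5.SpCenter
import Cfsg.Agent.Lib.Helper5.SpOrder
import Cfsg.Agent.S0766

set_option autoImplicit false

namespace Cfsg.Agent.Lib.Helper5

open Matrix Cfsg.Agent.Lib.Helper13
open scoped LinearAlgebra.Projectivization Pointwise

variable {F : Type*} [Field F] {m : ℕ}

local notation "V" => (Fin m ⊕ Fin m → F)
local notation "Sp" => Matrix.symplecticGroup (Fin m) F

/-- The isomorphism from Mathlib's symplectic group onto `Cfsg.spGL`. -/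
noncomputable def spToSpGL : Sp ≃* Cfsg.spGL m F where
  toEquiv := symplecticEquivFormGroup m
  map_mul' A B := by
    apply Subtype.ext
    apply Units.ext
    rfl

lemma spToSpGL_coe (A : Sp) : ((spToSpGL A).1.1 : Matrix _ _ F) = A.1 := rfl

/-- The action of `Sp_{2m}(F)` on the projective space. -/
@[instance_reducible]
noncomputable def spActionProj : MulAction Sp (ℙ F V) :=
  MulAction.compHom _ (spToSpGL (F := F) (m := m)).toMonoidHom

attribute [local instance] spActionProj

lemma sp_mulVec_ne_zero (A : Sp) {v : V} (hv : v ≠ 0) : A.1 *ᵥ v ≠ 0 := by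
  intro h
  apply hv
  rw [← sp_inv_mulVec_mulVec A v, h, Matrix.mulVec_zero]

lemma sp_smul_mk (A : Sp) {v : V} (hv : v ≠ 0) :
    A • Projectivization.mk F v hv = Projectivization.mk F (A.1 *ᵥ v) (sp_mulVec_ne_zero A hv) :=
  rfl

/-- `v` is non-zero and the point `[v]` lies in `B`. -/
def inB (B : Set (ℙ F V)) (v : V) : Prop := ∃ hv : v ≠ 0, Projectivization.mk F v hv ∈ B

lemma inB_smul {B : Set (ℙ F V)} {v : V} (h : inB B v) {a : F} (ha : a ≠ 0) : inB B (a • v) := by
  obtain ⟨hv, hB⟩ := h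
  refine ⟨smul_ne_zero ha hv, ?_⟩
  have : Projectivization.mk F (a • v) (smul_ne_zero ha hv) = Projectivization.mk F v hv := by
    rw [Projectivization.mk_eq_mk_iff']
    exact ⟨a, rfl⟩
  rw [this]; exact hB

lemma inB_map {B : Set (ℙ F V)} (hB : MulAction.IsBlock Sp B) (A : Sp) {v : V} (h : inB B v)
    (h' : inB B (A.1 *ᵥ v)) {w : V} (hw : inB B w) : inB B (A.1 *ᵥ w) := by
  obtain ⟨hv, hvB⟩ := h
  obtain ⟨hv', hvB'⟩ := h'
  obtain ⟨hw, hwB⟩ := hw
  have h1 : A • B = B := hB.smul_eq_of_mem hvB (by rw [sp_smul_mk]; exact hvB')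
  refine ⟨sp_mulVec_ne_zero A hw, ?_⟩
  rw [← sp_smul_mk A hw, ← h1]
  exact Set.smul_mem_smul_set hwB

lemma exists_sympForm_ne_zero {v : V} (hv : v ≠ 0) : ∃ a, Cfsg.sympForm m F v a ≠ 0 := by
  by_contra hcon
  push Not at hcon
  exact hv (sympForm_nondeg v hcon)

lemma blockA {B : Set (ℙ F V)} (hB : MulAction.IsBlock Sp B) {v w z : V} (hv : inB B v)
    (hw : inB B w) (hvw : Cfsg.sympForm m F v w ≠ 0) (hvz : Cfsg.sympForm m F v z ≠ 0) :
    inB B z := by
  obtain ⟨A, _, hAv, hAw⟩ := Cfsg.Agent.S0766.result m v ((Cfsg.sympForm m F v w)⁻¹ • w) v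
    ((Cfsg.sympForm m F v z)⁻¹ • z)
    (by rw [sympForm_smul_right, inv_mul_cancel₀ hvw])
    (by rw [sympForm_smul_right, inv_mul_cancel₀ hvz])
  have h1 := inB_map hB A hv (by rw [hAv]; exact hv) (inB_smul hw (inv_ne_zero hvw))
  rw [hAw] at h1
  have h2 := inB_smul h1 hvz
  rwa [smul_smul, mul_inv_cancel₀ hvz, one_smul] at h2

lemma sympForm_ne_zero_comm {u v : V} : Cfsg.sympForm m F u v ≠ 0 ↔ Cfsg.sympForm m F v u ≠ 0 := by
  rw [sympForm_swap u v]; simp

lemma blockB {B : Set (ℙ F V)} (hB : MulAction.IsBlock Sp B) {v w : V} (hv : inB B v)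
    (hw : inB B w) (hvw : Cfsg.sympForm m F v w ≠ 0) {z : V} (hz : z ≠ 0) : inB B z := by
  by_cases hvz : Cfsg.sympForm m F v z = 0
  · obtain ⟨y, hvy, hzy⟩ : ∃ y, Cfsg.sympForm m F v y ≠ 0 ∧ Cfsg.sympForm m F z y ≠ 0 := by
      obtain ⟨b, hb⟩ := exists_sympForm_ne_zero hz
      by_cases h1 : Cfsg.sympForm m F z w = 0
      · by_cases h2 : Cfsg.sympForm m F v b = 0
        · refine ⟨w + b, ?_, ?_⟩
          · rw [sympForm_add_right, h2, add_zero]; exact hvw
          · rw [sympForm_add_right, h1, zero_add]; exact hb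
        · exact ⟨b, h2, hb⟩
      · exact ⟨w, hvw, h1⟩
    have hy : inB B y := blockA hB hv hw hvw hvy
    exact blockA hB hy hv (sympForm_ne_zero_comm.1 hvy) (sympForm_ne_zero_comm.1 hzy)
  · exact blockA hB hv hw hvw hvz

lemma blockC {B : Set (ℙ F V)} (hB : MulAction.IsBlock Sp B) {v w : V} (hv : inB B v)
    (hw : inB B w) (hne : ∀ a : F, w ≠ a • v) {z : V} (hz : z ≠ 0) : inB B z := by
  by_cases hvw : Cfsg.sympForm m F v w = 0
  · obtain ⟨y, hvy, hwy⟩ : ∃ y, Cfsg.sympForm m F v y = 0 ∧ Cfsg.sympForm m F w y ≠ 0 := by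
      by_contra hcon
      push Not at hcon
      obtain ⟨a, ha⟩ := exists_sympForm_ne_zero hv.1
      apply hne (Cfsg.sympForm m F w a / Cfsg.sympForm m F v a)
      rw [← sub_eq_zero]
      apply sympForm_nondeg
      intro y
      have h1 := hcon (y - (Cfsg.sympForm m F v y / Cfsg.sympForm m F v a) • a) (by
        rw [sympForm_sub_right, sympForm_smul_right]; field_simp; ring)
      rw [sympForm_sub_right, sympForm_smul_right] at h1
      rw [sympForm_sub_left, sympForm_smul_left]
      field_simp at h1 ⊢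
      linear_combination h1
    have h1 := inB_map hB (tv y 1) hv (by rw [tv_mulVec, hvy]; simpa using hv) hw
    rw [tv_mulVec, one_mul] at h1
    refine blockB hB hw h1 ?_ hz
    rw [sympForm_add_right, sympForm_self, sympForm_smul_right, zero_add]
    exact mul_ne_zero hwy hwy
  · exact blockB hB hv hw hvw hz

theorem sp_isPretransitive : MulAction.IsPretransitive Sp (ℙ F V) := by
  constructor
  intro x y
  induction x using Projectivization.ind with | h v hv => ?_
  induction y using Projectivization.ind with | h w hw => ?_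
  have hW : ∀ u ∈ (⊤ : Submodule F (Fin m ⊕ Fin m → F)), u ≠ 0 →
      ∃ a ∈ (⊤ : Submodule F (Fin m ⊕ Fin m → F)), Cfsg.sympForm m F u a ≠ 0 := by
    intro u _ hu
    obtain ⟨a, ha⟩ := exists_sympForm_ne_zero hu
    exact ⟨a, trivial, ha⟩
  obtain ⟨A, _, hA⟩ := exists_tv_vec (⊤ : Submodule F (Fin m ⊕ Fin m → F)) hW
    (u := v) (u' := w) trivial trivial hv hw
  refine ⟨A, ?_⟩
  rw [sp_smul_mk]
  simp only [hA]

theorem sp_isPreprimitive : MulAction.IsPreprimitive Sp (ℙ F V) := by
  have := sp_isPretransitive (F := F) (m := m)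
  constructor
  intro B hB
  by_cases hs : B.Subsingleton
  · exact Or.inl hs
  right
  rw [Set.not_subsingleton_iff] at hs
  obtain ⟨x, hx, y, hy, hxy⟩ := hs
  induction x using Projectivization.ind with | h v hv => ?_
  induction y using Projectivization.ind with | h w hw => ?_
  rw [Set.eq_univ_iff_forall]
  intro z
  induction z using Projectivization.ind with | h z hz => ?_
  have := blockC hB (v := v) (w := w) ⟨hv, hx⟩ ⟨hw, hy⟩ (by
    intro a ha
    apply hxy
    rw [eq_comm, Projectivization.mk_eq_mk_iff']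
    exact ⟨a, ha.symm⟩) hz
  exact this.2

theorem spGL_isPreprimitive : MulAction.IsPreprimitive ↥(Cfsg.spGL m F) (ℙ F V) := by
  have := sp_isPreprimitive (F := F) (m := m)
  let f : ℙ F V →ₑ[(spToSpGL (F := F) (m := m) : Sp → Cfsg.spGL m F)] ℙ F V :=
    { toFun := id
      map_smul' := fun _ _ => rfl }
  exact MulAction.IsPreprimitive.of_surjective (f := f) Function.surjective_id

end Cfsg.Agent.Lib.Helper5
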