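import Mathlib
import Cfsg.Agent.Lib.Helper5.SpPrimitive
import Cfsg.Agent.S0765

set_option autoImplicit false

namespace Cfsg.Agent.Lib.Helper5

open Matrix Cfsg.Agent.Lib.Helper13
open scoped LinearAlgebra.Projectivization Pointwise

variable {F : Type*} [Field F] {m : ℕ}

local notation "V" => (Fin m ⊕ Fin m → F)
local notation "Sp" => Matrix.symplecticGroup (Fin m) F

attribute [local instance] spActionProj

/-- The group of transvections with centre `v`. -/
def tvGroup (v : V) : Subgroup Sp where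
  carrier := {A | ∃ c, A = tv v c}
  mul_mem' := by
    rintro _ _ ⟨c, rfl⟩ ⟨d, rfl⟩
    exact ⟨c + d, tv_mul_tv v c d⟩
  one_mem' := ⟨0, by
    apply sp_ext
    intro x
    rw [tv_mulVec]
    change (1 : Matrix _ _ F) *ᵥ x = _
    simp⟩
  inv_mem' := by
    rintro _ ⟨c, rfl⟩
    exact ⟨-c, tv_inv v c⟩

lemma tvGroup_smul (v : V) {a : F} (ha : a ≠ 0) : tvGroup (a • v) = tvGroup v := by
  ext A
  constructor
  · rintro ⟨c, rfl⟩
    exact ⟨a ^ 2 * c, tv_smul v a c⟩
  · rintro ⟨c, rfl⟩
    refine ⟨(a ^ 2)⁻¹ * c, ?_⟩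
    rw [tv_smul, ← mul_assoc, mul_inv_cancel₀ (pow_ne_zero 2 ha), one_mul]

lemma tvGroup_conj (A : Sp) (v : V) : tvGroup (A.1 *ᵥ v) = MulAut.conj A • tvGroup v := by
  ext X
  rw [Subgroup.mem_pointwise_smul_iff_inv_smul_mem]
  constructor
  · rintro ⟨c, rfl⟩
    refine ⟨c, ?_⟩
    rw [← tv_conj]
    simp [MulAut.smul_def, MulAut.conj_apply, mul_assoc]
  · rintro ⟨c, hc⟩
    refine ⟨c, ?_⟩
    rw [← tv_conj, ← hc]
    simp [MulAut.smul_def, MulAut.conj_apply, mul_assoc]

lemma tvGroup_rep (v : V) (hv : v ≠ 0) :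
    tvGroup (Projectivization.mk F v hv).rep = tvGroup v := by
  obtain ⟨a, ha⟩ := Projectivization.exists_smul_eq_mk_rep F v hv
  rw [← ha]
  exact tvGroup_smul v a.ne_zero

/-- The Iwasawa structure of the symplectic group. -/
noncomputable def spIwasawa : MulAction.IwasawaStructure Sp (ℙ F V) where
  T x := tvGroup x.rep
  is_comm x := by
    refine ⟨⟨?_⟩⟩
    rintro ⟨_, c, rfl⟩ ⟨_, d, rfl⟩
    apply Subtype.ext
    change tv _ c * tv _ d = tv _ d * tv _ c
    rw [tv_mul_tv, tv_mul_tv, add_comm]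
  is_conj A x := by
    induction x using Projectivization.ind with | h v hv => ?_
    rw [sp_smul_mk, tvGroup_rep, tvGroup_rep, tvGroup_conj]
  is_generator := by
    rw [eq_top_iff, ← Cfsg.Agent.S0765.result m, Subgroup.closure_le]
    rintro A ⟨w, c, hA⟩
    have hA' : A = tv w c := Subtype.ext hA
    rw [hA']
    by_cases hw : w = 0
    · rw [hw, tv_zero_left]; exact one_mem _
    · apply Subgroup.mem_iSup_of_mem (Projectivization.mk F w hw)
      rw [tvGroup_rep]
      exact ⟨c, rfl⟩

/-- A normal subgroup of `Sp_{2m}(F)` is central or contains the commutator subgroup. -/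
theorem sp_normal_le_center_or (N : Subgroup Sp) [N.Normal] :
    N ≤ Subgroup.center Sp ∨ commutator Sp ≤ N := by
  have := sp_isPreprimitive (F := F) (m := m)
  by_cases hfix : MulAction.fixedPoints N (ℙ F V) = Set.univ
  · left
    intro A hA
    obtain ⟨a, ha⟩ := matrix_eq_scalar_of_forall_mulVec A.1 (fun v => by
      by_cases hv : v = 0
      · exact ⟨0, by simp [hv]⟩
      have h1 : (⟨A, hA⟩ : N) • Projectivization.mk F v hv = Projectivization.mk F v hv :=
        (Set.eq_univ_iff_forall.1 hfix _) ⟨A, hA⟩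
      change A • Projectivization.mk F v hv = _ at h1
      rw [sp_smul_mk, Projectivization.mk_eq_mk_iff'] at h1
      obtain ⟨c, hc⟩ := h1
      exact ⟨c, hc.symm⟩)
    rw [Subgroup.mem_center_iff]
    intro B
    apply Subtype.ext
    change B.1 * A.1 = A.1 * B.1
    rw [ha]
    exact ((Matrix.scalar_commute a (fun r => mul_comm _ _) B.1)).symm
  · right
    exact spIwasawa.commutator_le N hfix

theorem psp_isSimpleGroup [Fintype F] (hm : 2 ≤ m) (h : m = 2 → 3 ≤ Fintype.card F) :
    IsSimpleGroup (Cfsg.PSp m F) := by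
  have hperf : commutator Sp = ⊤ := sp_commutator_eq_top (by
    rcases hm.eq_or_lt with h2 | h3
    · exact Or.inr (Or.inl ⟨h2.symm, h h2.symm⟩)
    · exact Or.inl h3)
  have hnt : Nontrivial (Cfsg.PSp m F) := by
    rw [QuotientGroup.nontrivial_iff]
    intro hc
    have h1 : commutator Sp = ⊥ := by
      rw [commutator_def, Subgroup.commutator_eq_bot_iff_le_centralizer, Subgroup.coe_top,
        Subgroup.centralizer_univ, hc]
    rw [hperf] at h1
    have h2 : tv (eL (⟨0, by omega⟩ : Fin m) : V) 1 = 1 := by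
      have : tv (eL (⟨0, by omega⟩ : Fin m) : V) 1 ∈ (⊤ : Subgroup Sp) := trivial
      rw [h1] at this
      exact this
    have h3 := congrArg (fun A : Sp => A.1 *ᵥ (eR (⟨0, by omega⟩ : Fin m) : V)) h2
    simp only [tv_mulVec] at h3
    change _ = (1 : Matrix _ _ F) *ᵥ _ at h3
    rw [Matrix.one_mulVec, sympForm_swap, sympForm_eL_eR] at h3
    simp at h3
    exact eL_ne_zero _ h3
  refine ⟨fun N hN => ?_⟩
  rcases sp_normal_le_center_or (N.comap (QuotientGroup.mk' (Subgroup.center Sp))) with h1 | h1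
  · left
    rw [eq_bot_iff]
    intro x hx
    obtain ⟨a, rfl⟩ := QuotientGroup.mk_surjective x
    have : a ∈ Subgroup.center Sp := h1 hx
    rw [Subgroup.mem_bot]
    exact (QuotientGroup.eq_one_iff a).2 this
  · right
    rw [hperf, top_le_iff] at h1
    rw [eq_top_iff]
    intro x _
    obtain ⟨a, rfl⟩ := QuotientGroup.mk_surjective x
    have : a ∈ N.comap (QuotientGroup.mk' (Subgroup.center Sp)) := by rw [h1]; trivial
    exact this

end Cfsg.Agent.Lib.Helper5
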